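import Groth.Agent.L12.GenusZero.Local
import Mathlib.RingTheory.Flat.FaithfullyFlat.Basic

/-!
# Fibres after a change of base: dimension and first cohomology descend
-/

set_option autoImplicit false
set_option linter.style.haveILetI false
set_option backward.isDefEq.respectTransparency false
set_option backward.isDefEq.respectTransparency.types false

universe u

open CategoryTheory CategoryTheory.Limits AlgebraicGeometry TopologicalSpace Opposite
open scoped TensorProduct

noncomputable section

namespace Groth.L12.FlatZero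

variable {X Y X₀ Y₀ : Scheme.{u}} {g : X ⟶ X₀} {f : X ⟶ Y} {f₀ : X₀ ⟶ Y₀} {b : Y ⟶ Y₀}

theorem fiber_dim_descend [LocallyOfFiniteType f₀] (sq : IsPullback g f f₀ b) (y : Y) {d : WithBot ℕ∞}
    (h : topologicalKrullDim ↥(f.fiber y) ≤ d) : topologicalKrullDim ↥(f₀.fiber (b y)) ≤ d := by
  haveI : LocallyOfFiniteType f := MorphismProperty.of_isPullback sq inferInstance
  rw [Groth.L07.FibreDim.fiber_dim_le_iff] at h ⊢
  intro x₀ hx₀
  obtain ⟨x, hxg, hxf⟩ := Scheme.exists_preimage_of_isPullback sq x₀ y hx₀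
  have := h x hxf
  rwa [Groth.L23.fibreDimAt_of_isPullback sq, hxg] at this

theorem subsingleton_h1_fiber_descend [IsSeparated f₀] [QuasiCompact f₀] (sq : IsPullback g f f₀ b) (y : Y)
    (h : Subsingleton (Coh.HH (f.fiber y) (Coh.structureModule (f.fiber y)) 1)) :
    Subsingleton (Coh.HH (f₀.fiber (b y)) (Coh.structureModule (f₀.fiber (b y))) 1) := by
  let K := Y.residueField y
  let K₀ := Y₀.residueField (b y)
  letI : Algebra K₀ K := (b.residueFieldMap y).hom.toAlgebra
  let f₁ := f₀.fiberToSpecResidueField (b y)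
  haveI : IsSeparated f₁ := MorphismProperty.pullback_snd _ _ inferInstance
  haveI : QuasiCompact f₁ := MorphismProperty.pullback_snd _ _ inferInstance
  have hb : Spec.map (b.residueFieldMap y) ≫ Y₀.fromSpecResidueField (b y) = Y.fromSpecResidueField y ≫ b :=
    Scheme.Hom.SpecMap_residueFieldMap_fromSpecResidueField b y
  have sq₀ : IsPullback (f₀.fiberι (b y)) f₁ f₀ (Y₀.fromSpecResidueField (b y)) := IsPullback.of_hasPullback _ _
  have sqF : IsPullback (f.fiberι y) (f.fiberToSpecResidueField y) f (Y.fromSpecResidueField y) :=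
    IsPullback.of_hasPullback _ _
  let j := sq₀.lift (f.fiberι y ≫ g) (f.fiberToSpecResidueField y ≫ Spec.map (b.residueFieldMap y)) (by
    rw [Category.assoc, Category.assoc, hb, sq.w, f.fiber_fac_assoc])
  have sq₁ : IsPullback j (f.fiberToSpecResidueField y) f₁ (Spec.map (CommRingCat.ofHom (algebraMap K₀ K))) := by
    refine IsPullback.of_right (h₁₂ := f₀.fiberι (b y)) ?_ (sq₀.lift_snd _ _ _) sq₀
    rw [sq₀.lift_fst]
    exact hb.symm ▸ (sqF.paste_horiz sq)
  letI : Module K₀ (Coh.HH (f₀.fiber (b y)) (Coh.structureModule (f₀.fiber (b y))) 1) :=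
    Module.compHom _ (Coh.toGlobal (A := K₀) f₁)
  haveI : Coh.IsQCoh (Coh.structureModule (f₀.fiber (b y))) := (Groth.L12.GenusZero.isCoh_structure_any _).1
  obtain ⟨e⟩ := Groth.L16.Rees.exists_flat_bc_equiv (A := K₀) (B := K) f₁ (f.fiberToSpecResidueField y) j sq₁
    (Coh.structureModule (f₀.fiber (b y))) 1
  haveI := h
  haveI := Groth.L12.GenusZero.subsingleton_of_iso (Groth.L29.LocFree.pullbackUnitIso j).symm 1
  haveI hs : Subsingleton ((K : Type u) ⊗[K₀] Coh.HH (f₀.fiber (b y)) (Coh.structureModule (f₀.fiber (b y))) 1) :=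
    e.toEquiv.subsingleton
  exact Module.FaithfullyFlat.lTensor_reflects_triviality (K₀ : Type u) (K : Type u) _

end Groth.L12.FlatZero
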