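import Groth.Agent.L12.FlatZero.Model
import Groth.Agent.L12.FlatZero.Fibre
import Groth.Agent.L00.ProperNorm
import Mathlib.RingTheory.TensorProduct.Finite

/-!
# Finite presentation of global functions near a fibre point with one-dimensional fibre and no `H¹`
-/

set_option autoImplicit false
set_option linter.style.haveILetI false
set_option linter.unusedSectionVars false
set_option backward.isDefEq.respectTransparency false
set_option backward.isDefEq.respectTransparency.types false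

universe u

open CategoryTheory CategoryTheory.Limits AlgebraicGeometry TopologicalSpace Opposite
open scoped TensorProduct

noncomputable section

namespace Groth.L12.FlatZero

open Groth.L17.BC (Sec act fV fV_fromSpec compat_of_isPullback)
open Groth.L17.BC.Classes (isPullback_fV)
open Groth.L21.Nodal (affProj isPullback_affProj)
open Groth.L12.GenusZero (exists_good_nhd fiber_dim_le_of_isPullback subsingleton_HH_above fiber_dim_fV isProper_fV)

/-- Higher cohomology vanishes with one-dimensional fibres and no `H¹`. -/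
theorem vanishing {X : Scheme.{u}} {R : CommRingCat.{u}} (f : X ⟶ Spec R) [IsProper f]
    (hd : ∀ y, topologicalKrullDim ↥(f.fiber y) ≤ 1) (h1 : Subsingleton (Coh.HH X (Coh.structureModule X) 1))
    (p : ℕ) (hp : 1 ≤ p) : Subsingleton (Coh.HH X (Coh.structureModule X) p) := by
  rcases hp.lt_or_eq with h | rfl
  · haveI : Coh.IsQCoh (Coh.structureModule X) := Groth.L16.EtaleFibre.isQCoh_structure
    exact subsingleton_HH_above f (d := 1) hd _ h
  · exact h1

/-- Base change to the base of a base change to an algebra: finite presentation descends to the algebra. -/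
theorem finitePresentation_of_model {A A₀ : Type u} [CommRing A] [CommRing A₀] [Algebra A₀ A]
    {Q₂ : Type u} [CommRing Q₂] [IsNoetherianRing Q₂] [Algebra A₀ Q₂]
    {X₂ X' : Scheme.{u}} (f₂ : X₂ ⟶ Spec (CommRingCat.of Q₂)) [IsProper f₂]
    [Flat (f₂ ≫ Spec.map (CommRingCat.ofHom (algebraMap A₀ Q₂)))]
    (hd : ∀ y, topologicalKrullDim ↥(f₂.fiber y) ≤ 1) (h1 : Subsingleton (Coh.HH X₂ (Coh.structureModule X₂) 1))
    (f' : X' ⟶ Spec (CommRingCat.of (A ⊗[A₀] Q₂))) (k : X' ⟶ X₂)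
    (sq : IsPullback k f' f₂ (Spec.map (CommRingCat.ofHom
      (Algebra.TensorProduct.includeRight (R := A₀) (A := A) (B := Q₂)).toRingHom))) :
    Module.FinitePresentation (A ⊗[A₀] Q₂) (Sec (Coh.toGlobal f') (Coh.structureModule X') ⊤) := by
  letI : Algebra Q₂ (A ⊗[A₀] Q₂) := (Algebra.TensorProduct.includeRight (R := A₀) (A := A) (B := Q₂)).toRingHom.toAlgebra
  let s₂ := Spec.map (CommRingCat.ofHom (algebraMap A₀ Q₂))
  let eA := Spec.map (CommRingCat.ofHom
    (Algebra.TensorProduct.includeLeftRingHom : A →+* A ⊗[A₀] Q₂))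
  have sqT : IsPullback (Spec.map (CommRingCat.ofHom
      (Algebra.TensorProduct.includeRight (R := A₀) (A := A) (B := Q₂)).toRingHom)) eA s₂
      (Spec.map (CommRingCat.ofHom (algebraMap A₀ A))) :=
    (isPullback_SpecMap_of_isPushout _ _ _ _ (CommRingCat.isPushout_tensorProduct A₀ A Q₂)).flip
  have sqA : IsPullback k (f' ≫ eA) (f₂ ≫ s₂) (Spec.map (CommRingCat.ofHom (algebraMap A₀ A))) :=
    sq.paste_vert sqT
  haveI : IsSeparated (f₂ ≫ s₂) := inferInstance
  haveI : QuasiCompact (f₂ ≫ s₂) := inferInstance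
  have hbc := isBaseChange_global (f₂ ≫ s₂) (vanishing f₂ hd h1) (f' ≫ eA) k sqA
  let π := pullO k (Coh.toGlobal f₂) (Coh.toGlobal f') (compat_of_isPullback f₂ f' k sq) (V := ⊤) (W := ⊤) le_rfl
  let R₂ := Sec (Coh.toGlobal f₂) (Coh.structureModule X₂) ⊤
  let R := Sec (Coh.toGlobal f') (Coh.structureModule X') ⊤
  haveI : Module.Finite Q₂ R₂ := by
    letI : Algebra Q₂ Γ(X₂, ⊤) := (Groth.L00.ProperNorm.glob f₂).toAlgebra
    haveI : Module.Finite Q₂ Γ(X₂, ⊤) := Groth.L00.ProperNorm.finite_toGlobal f₂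
    refine Module.Finite.equiv (M := Γ(X₂, ⊤)) ?_
    exact
      { (AddEquiv.refl Γ(X₂, ⊤)) with
        map_smul' := fun a s => by
          show Groth.L00.ProperNorm.glob f₂ a * (show Γ(X₂, ⊤) from s) =
            act (Coh.toGlobal f₂) ⊤ a * (show Γ(X₂, ⊤) from s)
          exact congrArg (· * (show Γ(X₂, ⊤) from s)) (Groth.L18.Frame.ro_self le_rfl _).symm }
  haveI : Module.FinitePresentation Q₂ R₂ := Module.finitePresentation_of_finite _ _
  let T : (A ⊗[A₀] Q₂) ⊗[Q₂] R₂ →ₗ[A ⊗[A₀] Q₂] R := π.liftBaseChange (A ⊗[A₀] Q₂)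
  let R₀ := Sec (Coh.toGlobal (f₂ ≫ s₂)) (Coh.structureModule X₂) ⊤
  have hA₀ : ∀ (c : A₀) (r : R₀), (show R₂ from c • r) = algebraMap A₀ Q₂ c • (show R₂ from r) := fun c r => by
    show act (Coh.toGlobal (f₂ ≫ s₂)) ⊤ c * (show Γ(X₂, ⊤) from r) =
      act (Coh.toGlobal f₂) ⊤ (algebraMap A₀ Q₂ c) * (show Γ(X₂, ⊤) from r)
    have h : Coh.toGlobal (f₂ ≫ s₂) c = Coh.toGlobal f₂ (algebraMap A₀ Q₂ c) := by
      show ((Scheme.ΓSpecIso (CommRingCat.of A₀)).inv ≫ (f₂ ≫ s₂).appTop) c =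
        (CommRingCat.ofHom (algebraMap A₀ Q₂) ≫ (Scheme.ΓSpecIso (CommRingCat.of Q₂)).inv ≫ f₂.appTop) c
      rw [Scheme.Hom.comp_appTop, ← Category.assoc, ← Scheme.ΓSpecIso_inv_naturality, Category.assoc]
    exact congrArg (· * (show Γ(X₂, ⊤) from r)) (congrArg (X₂.presheaf.map (homOfLE le_top).op) h)
  let S : A ⊗[A₀] R₀ →+ (A ⊗[A₀] Q₂) ⊗[Q₂] R₂ := TensorProduct.liftAddHom
    { toFun := fun a =>
        { toFun := fun r => (a ⊗ₜ[A₀] (1 : Q₂)) ⊗ₜ[Q₂] (show R₂ from r)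
          map_zero' := TensorProduct.tmul_zero _ _
          map_add' := fun r r' => TensorProduct.tmul_add _ _ _ }
      map_zero' := AddMonoidHom.ext fun r => by
        show ((0 : A) ⊗ₜ[A₀] (1 : Q₂)) ⊗ₜ[Q₂] (show R₂ from r) = 0
        rw [TensorProduct.zero_tmul, TensorProduct.zero_tmul]
      map_add' := fun a a' => AddMonoidHom.ext fun r => by
        show ((a + a') ⊗ₜ[A₀] (1 : Q₂)) ⊗ₜ[Q₂] (show R₂ from r) = _
        rw [TensorProduct.add_tmul, TensorProduct.add_tmul]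
        rfl }
    fun c a r => by
      show ((c • a) ⊗ₜ[A₀] (1 : Q₂)) ⊗ₜ[Q₂] (show R₂ from r) = (a ⊗ₜ[A₀] (1 : Q₂)) ⊗ₜ[Q₂] (show R₂ from c • r)
      rw [hA₀, ← TensorProduct.smul_tmul, TensorProduct.smul_tmul (R := A₀) c a]
      congr 1
      rw [Algebra.smul_def (algebraMap A₀ Q₂ c)]
      show a ⊗ₜ[A₀] (c • (1 : Q₂)) = ((1 : A) ⊗ₜ[A₀] algebraMap A₀ Q₂ c) * (a ⊗ₜ[A₀] (1 : Q₂))
      rw [Algebra.TensorProduct.tmul_mul_tmul, one_mul, mul_one, Algebra.algebraMap_eq_smul_one]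
  have hS : Function.Surjective S := fun z => by
    induction z using TensorProduct.induction_on with
    | zero => exact ⟨0, map_zero S⟩
    | add z z' hz hz' =>
      obtain ⟨w, rfl⟩ := hz; obtain ⟨w', rfl⟩ := hz'
      exact ⟨w + w', map_add S w w'⟩
    | tmul q r =>
      induction q using TensorProduct.induction_on with
      | zero => exact ⟨0, by rw [map_zero, TensorProduct.zero_tmul]⟩
      | add q q' hq hq' =>
        obtain ⟨w, hw⟩ := hq; obtain ⟨w', hw'⟩ := hq'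
        exact ⟨w + w', by rw [map_add, hw, hw', TensorProduct.add_tmul]⟩
      | tmul a q =>
        refine ⟨a ⊗ₜ[A₀] (show R₀ from q • r), ?_⟩
        show (a ⊗ₜ[A₀] (1 : Q₂)) ⊗ₜ[Q₂] (q • r) = (a ⊗ₜ[A₀] q) ⊗ₜ[Q₂] r
        rw [← TensorProduct.smul_tmul]
        congr 1
        rw [Algebra.smul_def]
        show ((1 : A) ⊗ₜ[A₀] q) * (a ⊗ₜ[A₀] (1 : Q₂)) = a ⊗ₜ[A₀] q
        rw [Algebra.TensorProduct.tmul_mul_tmul, one_mul, mul_one]
  have hTS : ∀ t : A ⊗[A₀] R₀, T (S t) = (show R from hbc.equiv t) := fun t => by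
    induction t using TensorProduct.induction_on with
    | zero => rw [map_zero, map_zero, map_zero]
    | add t t' ht ht' => rw [map_add, map_add, map_add, ht, ht']
    | tmul a r =>
      show T ((a ⊗ₜ[A₀] (1 : Q₂)) ⊗ₜ[Q₂] (show R₂ from r)) = _
      rw [LinearMap.liftBaseChange_tmul, IsBaseChange.equiv_tmul]
      show act (Coh.toGlobal f') ⊤ (a ⊗ₜ[A₀] (1 : Q₂)) * (show Γ(X', ⊤) from π (show R₂ from r)) =
        act (Coh.toGlobal (f' ≫ eA)) ⊤ a * (show Γ(X', ⊤) from π (show R₂ from r))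
      have h : Coh.toGlobal (f' ≫ eA) a = Coh.toGlobal f' (a ⊗ₜ[A₀] (1 : Q₂)) := by
        show ((Scheme.ΓSpecIso (CommRingCat.of A)).inv ≫ (f' ≫ eA).appTop) a =
          (CommRingCat.ofHom (Algebra.TensorProduct.includeLeftRingHom : A →+* A ⊗[A₀] Q₂) ≫
            (Scheme.ΓSpecIso (CommRingCat.of (A ⊗[A₀] Q₂))).inv ≫ f'.appTop) a
        rw [Scheme.Hom.comp_appTop, ← Category.assoc, ← Scheme.ΓSpecIso_inv_naturality, Category.assoc]
      exact congrArg (· * (show Γ(X', ⊤) from π (show R₂ from r)))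
        (congrArg (X'.presheaf.map (homOfLE le_top).op) h).symm
  have hT : Function.Bijective T := by
    constructor
    · intro u v huv
      obtain ⟨a, rfl⟩ := hS u
      obtain ⟨b, rfl⟩ := hS v
      rw [hTS, hTS] at huv
      rw [hbc.equiv.injective huv]
    · intro r
      obtain ⟨t, ht⟩ := hbc.equiv.surjective r
      exact ⟨S t, (hTS t).trans ht⟩
  exact Module.FinitePresentation.of_equiv (LinearEquiv.ofBijective T hT)

variable {A : Type u} [CommRing A] (n : ℕ) {X : Scheme.{u}}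
  (f : X ⟶ Spec (CommRingCat.of (MvPolynomial (Fin n) A))) [IsProper f] [LocallyOfFinitePresentation f]
  [Flat (f ≫ affProj n A)]

/-- A point with a good fibre has an affine neighbourhood over which the global functions are finitely
presented and `H¹` vanishes. -/
theorem exists_nhd_finitePresentation (p : Spec (CommRingCat.of (MvPolynomial (Fin n) A)))
    (hdim : topologicalKrullDim ↥(f.fiber p) ≤ 1)
    (hH1 : Subsingleton (Coh.HH (f.fiber p) (Coh.structureModule (f.fiber p)) 1)) :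
    ∃ (Q : CommRingCat.{u}) (b : Spec Q ⟶ Spec (CommRingCat.of (MvPolynomial (Fin n) A))),
      IsOpenImmersion b ∧ p ∈ Set.range b ∧
      ∀ (X' : Scheme.{u}) (f' : X' ⟶ Spec Q) (g' : X' ⟶ X), IsPullback g' f' f b →
        Subsingleton (Coh.HH X' (Coh.structureModule X') 1) ∧ (∀ z, topologicalKrullDim ↥(f'.fiber z) ≤ 1) ∧
          Module.FinitePresentation Q (Sec (Coh.toGlobal (A := Q) f') (Coh.structureModule X') ⊤) := by
  obtain ⟨A₀, hA₀, X₀, f₀, g, hf₀, hlfp₀, hflat₀, sq⟩ := exists_model_affineSpace n f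
  haveI := hA₀; haveI := hf₀; haveI := hlfp₀; haveI := hflat₀
  let m := Spec.map (CommRingCat.ofHom (MvPolynomial.map (σ := Fin n) (algebraMap (↥A₀) A)))
  haveI : IsProper f₀ := hf₀
  obtain ⟨V, hV, hpV, hdV, huniv⟩ := exists_good_nhd f₀ (m p) (fiber_dim_descend sq p hdim)
    (subsingleton_h1_fiber_descend sq p hH1)
  let Q₂ := Γ(Spec (CommRingCat.of (MvPolynomial (Fin n) ↥A₀)), V)
  haveI : IsNoetherianRing Q₂ := IsLocallyNoetherian.component_noetherian ⟨V, hV⟩
  letI : Algebra ↥A₀ Q₂ := (Spec.preimage (hV.fromSpec ≫ affProj n ↥A₀)).hom.toAlgebra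
  have hs₂ : Spec.map (CommRingCat.ofHom (algebraMap ↥A₀ Q₂)) = hV.fromSpec ≫ affProj n ↥A₀ := Spec.map_preimage _
  let eR := Spec.map (CommRingCat.ofHom (Algebra.TensorProduct.includeRight (R := ↥A₀) (A := A) (B := Q₂)).toRingHom)
  let eA := Spec.map (CommRingCat.ofHom (Algebra.TensorProduct.includeLeftRingHom : A →+* A ⊗[↥A₀] Q₂))
  have sqT : IsPullback eR eA (hV.fromSpec ≫ affProj n ↥A₀) (Spec.map (CommRingCat.ofHom (algebraMap (↥A₀) A))) :=
    hs₂ ▸ (isPullback_SpecMap_of_isPushout _ _ _ _ (CommRingCat.isPushout_tensorProduct ↥A₀ A Q₂)).flip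
  have sqP := isPullback_affProj n (algebraMap (↥A₀) A)
  let b := sqP.lift (eR ≫ hV.fromSpec) eA (by rw [Category.assoc]; exact sqT.w)
  have hb : b ≫ m = eR ≫ hV.fromSpec := sqP.lift_fst _ _ _
  have sqb : IsPullback eR b hV.fromSpec m :=
    IsPullback.of_bot (by rw [sqP.lift_snd]; exact sqT) hb.symm sqP
  haveI : IsOpenImmersion b := MorphismProperty.of_isPullback sqb inferInstance
  refine ⟨CommRingCat.of (A ⊗[↥A₀] Q₂), b, ‹_›, ?_, fun X' f' g' sq' => ?_⟩
  · obtain ⟨q, hq⟩ := hV.range_fromSpec.ge hpV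
    obtain ⟨z, -, hz⟩ := Scheme.exists_preimage_of_isPullback sqb q p hq
    exact ⟨z, hz⟩
  have sqX : IsPullback (g' ≫ g) f' f₀ (eR ≫ hV.fromSpec) := hb ▸ sq'.paste_horiz sq
  have sqV := isPullback_fV f₀ hV
  let k := sqV.lift (g' ≫ g) (f' ≫ eR) (by rw [Category.assoc (f' : _ ⟶ _)]; exact sqX.w)
  have sqk : IsPullback k f' (fV f₀ hV) eR := IsPullback.of_right
    (show IsPullback (k ≫ (f₀ ⁻¹ᵁ V).ι) f' f₀ (eR ≫ hV.fromSpec) by rw [sqV.lift_fst]; exact sqX)
    (sqV.lift_snd _ _ _) sqV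
  haveI := isProper_fV f₀ hV
  haveI : Flat (fV f₀ hV ≫ Spec.map (CommRingCat.ofHom (algebraMap ↥A₀ Q₂))) := by
    rw [hs₂, ← Category.assoc, fV_fromSpec, Category.assoc]
    infer_instance
  have h1V := huniv _ _ (fV f₀ hV) (f₀ ⁻¹ᵁ V).ι hV.fromSpec sqV hV.range_fromSpec.le
  refine ⟨huniv _ X' f' (g' ≫ g) _ sqX ?_, fun z => fiber_dim_le_of_isPullback sqk z (fiber_dim_fV f₀ hV hdV _),
    finitePresentation_of_model (Q₂ := Q₂) (fV f₀ hV) (fiber_dim_fV f₀ hV hdV) h1V f' k sqk⟩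
  rintro _ ⟨z, rfl⟩
  exact hV.range_fromSpec.le ⟨eR z, rfl⟩

end Groth.L12.FlatZero
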