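import Groth.Agent.L12.FlatZero.Main
import Groth.Agent.L20.FibreModuleOpen
import Groth.Agent.L29.BC.FlatModel
import Groth.Agent.L17.Approx.Pull
import Groth.Agent.L17.Approx.Extend
import Groth.Agent.L16.QcqsPush

/-!
# From neighbourhoods of points of a fibre to neighbourhoods of the fibre
-/

set_option autoImplicit false
set_option linter.style.haveILetI false
set_option linter.unusedSectionVars false
set_option backward.isDefEq.respectTransparency false
set_option backward.isDefEq.respectTransparency.types false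

universe u

open CategoryTheory CategoryTheory.Limits AlgebraicGeometry TopologicalSpace Opposite
open scoped TensorProduct

noncomputable section

namespace Groth.L12.FlatZero

open Groth.L17.BC (Sec act fV fV_fromSpec)
open Groth.L17.BC.Classes (isPullback_fV)
open Groth.L12.GenusZero (fiber_dim_fV isProper_fV toGlobal_fV)

variable {X Y S : Scheme.{u}}

theorem flat_stalkMap_of_isFlatOverAt (f : X ⟶ S) (x : X)
    (hx : FlatMod.IsFlatOverAt f (Coh.structureModule X) x) : (f.stalkMap x).hom.Flat := by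
  unfold FlatMod.IsFlatOverAt at hx
  letI := (f.stalkMap x).hom.toAlgebra
  letI := FlatMod.moduleStalkOver f (Coh.structureModule X) x
  haveI : IsScalarTower (S.presheaf.stalk (f x)) (X.presheaf.stalk x) ((Coh.structureModule X).presheaf.stalk x) :=
    IsScalarTower.of_algebraMap_smul fun _ _ => rfl
  let e : X.presheaf.stalk x ≃ₗ[X.presheaf.stalk x] (Coh.structureModule X).presheaf.stalk x :=
    LinearEquiv.ofBijective (LinearMap.toSpanSingleton (X.presheaf.stalk x) _ (Groth.L22.oneGerm x))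
      ⟨(injective_iff_map_eq_zero _).2 fun a ha => Groth.L22.eq_zero_of_smul_oneGerm ha,
        Groth.L22.stalk_smul_oneGerm_surjective x⟩
  haveI : Module.Flat (S.presheaf.stalk (f x)) ((Coh.structureModule X).presheaf.stalk x) := hx
  show Module.Flat (S.presheaf.stalk (f x)) (X.presheaf.stalk x)
  exact Module.Flat.of_linearEquiv (e.restrictScalars (S.presheaf.stalk (f x)))

theorem isFlatOverAt_of_flat_stalkMap (f : X ⟶ S) (x : X) (hx : (f.stalkMap x).hom.Flat) :
    FlatMod.IsFlatOverAt f (Coh.structureModule X) x := by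
  letI := (f.stalkMap x).hom.toAlgebra
  letI := FlatMod.moduleStalkOver f (Coh.structureModule X) x
  haveI : IsScalarTower (S.presheaf.stalk (f x)) (X.presheaf.stalk x) ((Coh.structureModule X).presheaf.stalk x) :=
    IsScalarTower.of_algebraMap_smul fun _ _ => rfl
  haveI : Module.Flat (S.presheaf.stalk (f x)) (X.presheaf.stalk x) := hx
  haveI : Module.Flat (X.presheaf.stalk x) ((Coh.structureModule X).presheaf.stalk x) :=
    Groth.L29.DC.isFlat_of_isFinLocFree
      (Groth.L16.Existence.isFinLocFree_of_isInvertible (Groth.L18.Ample.isInvertible_structureModule X)) x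
  exact Module.Flat.trans (S.presheaf.stalk (f x)) (X.presheaf.stalk x) ((Coh.structureModule X).presheaf.stalk x)

theorem flat_ι_comp (h : X ⟶ S) (V : X.Opens) :
    Flat (V.ι ≫ h) ↔ ∀ x ∈ V, (h.stalkMap x).hom.Flat := by
  rw [Flat.iff_flat_stalkMap]
  refine ⟨fun H x hx => ?_, fun H z => ?_⟩
  · have := H ⟨x, hx⟩
    rw [Scheme.Hom.stalkMap_comp, CommRingCat.hom_comp] at this
    exact (RingHom.Flat.respectsIso.cancel_right_isIso (h.stalkMap x) (V.ι.stalkMap ⟨x, hx⟩)).1 this
  · rw [Scheme.Hom.stalkMap_comp, CommRingCat.hom_comp]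
    exact (RingHom.Flat.respectsIso.cancel_right_isIso (h.stalkMap _) (V.ι.stalkMap z)).2 (H _ z.2)

/-- An open neighbourhood of the fibre over which the composite is flat. -/
theorem exists_flat_nhd (f : X ⟶ Y) [IsProper f] (g : Y ⟶ S) [LocallyOfFinitePresentation (f ≫ g)] (s : S)
    (hflat : ∀ x : X, g (f x) = s → ((f ≫ g).stalkMap x).hom.Flat) :
    ∃ O : Y.Opens, g ⁻¹' {s} ⊆ (O : Set Y) ∧ Flat ((f ⁻¹ᵁ O).ι ≫ f ≫ g) := by
  have hop := Groth.L20.FibreModule.isOpen_isFlatOverAt (f ≫ g) (Coh.structureModule X)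
    Groth.L16.EtaleFibre.isQCoh_structure Groth.L16.EtaleFibre.isFP_structure
  refine ⟨⟨_, (f.isClosedMap _ hop.isClosed_compl).isOpen_compl⟩, fun y hy ⟨x, hx, hxy⟩ => hx ?_,
    (flat_ι_comp (f ≫ g) _).2 fun x hx => ?_⟩
  · exact isFlatOverAt_of_flat_stalkMap (f ≫ g) x (hflat x (by rw [hxy]; exact hy))
  · exact flat_stalkMap_of_isFlatOverAt (f ≫ g) x (by_contra fun h => hx ⟨x, h, rfl⟩)

theorem image_preimage_of_le {V U : Y.Opens} (hU : U ≤ V) : V.ι ''ᵁ (V.ι ⁻¹ᵁ U) = U := by
  rw [V.ι.image_preimage_eq_opensRange_inf, Scheme.Opens.opensRange_ι]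
  exact inf_eq_right.2 hU

section Glob

variable (f : X ⟶ Y) [IsProper f] {V : Y.Opens}

/-- Surjectivity on functions spreads from a cover by affine opens to all affine opens. -/
theorem surjective_of_cover
    (H : ∀ y ∈ V, ∃ V' : Y.Opens, IsAffineOpen V' ∧ y ∈ V' ∧ V' ≤ V ∧ Function.Surjective (f.app V'))
    {U : Y.Opens} (hU : IsAffineOpen U) (hUV : U ≤ V) : Function.Surjective (f.app U) := by
  choose V' hV' hy hle hs using H
  haveI : Coh.IsQCoh (Coh.structureModule Y) := Groth.L16.EtaleFibre.isQCoh_structure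
  haveI : Coh.IsQCoh (Coh.structureModule X) := Groth.L16.EtaleFibre.isQCoh_structure
  haveI := Groth.L16.QcqsPush.isQCoh_push (Coh.structureModule X) f
  let R := Scheme.Modules.restrictFunctor V.ι
  let φ := ClSub.unitToPush f
  haveI : Coh.IsQCoh (R.obj (Coh.structureModule Y)) := Scheme.Modules.isQuasicoherent_restrictFunctor _ _
  haveI : Coh.IsQCoh (R.obj ((Scheme.Modules.pushforward f).obj (Coh.structureModule X))) :=
    Scheme.Modules.isQuasicoherent_restrictFunctor _ _
  haveI : Epi (R.map φ) := Groth.L17.Approx.epi_of_surjective_cover (R.map φ)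
    (fun z : V.toScheme => V.ι ⁻¹ᵁ V' z.1 z.2)
    (fun z => (hV' z.1 z.2).preimage_of_isOpenImmersion V.ι (by rw [Scheme.Opens.opensRange_ι]; exact hle z.1 z.2))
    (fun z => ⟨z, hy z.1 z.2⟩) fun z => by
      have h := hs z.1 z.2
      rw [← image_preimage_of_le (hle z.1 z.2)] at h
      exact h
  have h := Groth.L18.AffineCrit.surjective_app_of_epi_affine (R.map φ)
    (hU.preimage_of_isOpenImmersion V.ι (by rw [Scheme.Opens.opensRange_ι]; exact hUV))
  have h' : Function.Surjective (φ.app (V.ι ''ᵁ (V.ι ⁻¹ᵁ U))) := h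
  rw [image_preimage_of_le hUV] at h'
  exact h'

/-- Bijectivity on functions spreads from a cover by affine opens to all opens. -/
theorem isIso_of_cover
    (H : ∀ y ∈ V, ∃ V' : Y.Opens, IsAffineOpen V' ∧ y ∈ V' ∧ V' ≤ V ∧ Function.Bijective (f.app V'))
    {U : Y.Opens} (hUV : U ≤ V) : IsIso (f.app U) := by
  choose V' hV' hy hle hs using H
  haveI : Coh.IsQCoh (Coh.structureModule Y) := Groth.L16.EtaleFibre.isQCoh_structure
  haveI : Coh.IsQCoh (Coh.structureModule X) := Groth.L16.EtaleFibre.isQCoh_structure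
  haveI := Groth.L16.QcqsPush.isQCoh_push (Coh.structureModule X) f
  let R := Scheme.Modules.restrictFunctor V.ι
  let φ := ClSub.unitToPush f
  haveI : Coh.IsQCoh (R.obj (Coh.structureModule Y)) := Scheme.Modules.isQuasicoherent_restrictFunctor _ _
  haveI : Coh.IsQCoh (R.obj ((Scheme.Modules.pushforward f).obj (Coh.structureModule X))) :=
    Scheme.Modules.isQuasicoherent_restrictFunctor _ _
  have haff := fun z : V.toScheme => (hV' z.1 z.2).preimage_of_isOpenImmersion V.ι
    (by rw [Scheme.Opens.opensRange_ι]; exact hle z.1 z.2)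
  have hb : ∀ z : V.toScheme, Function.Bijective ((R.map φ).app (V.ι ⁻¹ᵁ V' z.1 z.2)) := fun z => by
    have h := hs z.1 z.2
    rw [← image_preimage_of_le (hle z.1 z.2)] at h
    exact h
  haveI : Epi (R.map φ) := Groth.L17.Approx.epi_of_surjective_cover (R.map φ) _ haff
    (fun z => ⟨z, hy z.1 z.2⟩) fun z => (hb z).2
  haveI : Mono (R.map φ) := Groth.L17.Approx.mono_of_injective_cover (R.map φ) _ haff
    (fun z => ⟨z, hy z.1 z.2⟩) fun z => (hb z).1
  haveI : IsIso (R.map φ) := isIso_of_mono_of_epi _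
  exact (ConcreteCategory.isIso_iff_bijective _).2 (Groth.L17.Approx.bijective_app_of_isIso_restrict φ hUV)

theorem subsingleton_HHon {U : Y.Opens}
    (h : Subsingleton (Coh.HH (f ⁻¹ᵁ U).toScheme (Coh.structureModule (f ⁻¹ᵁ U).toScheme) 1)) :
    Subsingleton (Coh.HHon X (Coh.structureModule X) (f ⁻¹ᵁ U) 1) := by
  haveI := h
  exact Groth.L12.GenusZero.subsingleton_of_iso
    ((Groth.L29.LocFree.pullbackUnitIso (f ⁻¹ᵁ U).ι).symm ≪≫
      ((Scheme.Modules.restrictFunctorIsoPullback (f ⁻¹ᵁ U).ι).app _).symm) 1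

/-- Fibres over an affine open with good fibre dimensions and no `H¹` have no `H¹`. -/
theorem h1_fibre_of_affine (hV : IsAffineOpen V) (hd : ∀ z ∈ V, topologicalKrullDim ↥(f.fiber z) ≤ 1)
    (h1 : Subsingleton (Coh.HH (f ⁻¹ᵁ V).toScheme (Coh.structureModule (f ⁻¹ᵁ V).toScheme) 1)) {y : Y} (hy : y ∈ V) :
    Subsingleton (Coh.HH (f.fiber y) (Coh.structureModule (f.fiber y)) 1) := by
  let b := IsOpenImmersion.lift hV.fromSpec (Y.fromSpecResidueField y) (by
    rw [hV.range_fromSpec, Scheme.range_fromSpecResidueField]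
    exact Set.singleton_subset_iff.2 hy)
  have hb : b ≫ hV.fromSpec = Y.fromSpecResidueField y := IsOpenImmersion.lift_fac _ _ _
  have sqT := isPullback_fV f hV
  have sqF : IsPullback (f.fiberι y) (f.fiberToSpecResidueField y) f (Y.fromSpecResidueField y) :=
    IsPullback.of_hasPullback _ _
  let j := sqT.lift (f.fiberι y) (f.fiberToSpecResidueField y ≫ b) (by rw [Category.assoc, hb]; exact sqF.w)
  have sq : IsPullback j (f.fiberToSpecResidueField y) (fV f hV) b := IsPullback.of_right
    (show IsPullback (j ≫ (f ⁻¹ᵁ V).ι) (f.fiberToSpecResidueField y) f (b ≫ hV.fromSpec) by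
      rw [sqT.lift_fst, hb]; exact sqF)
    (sqT.lift_snd _ _ _) sqT
  haveI := isProper_fV f hV
  exact (Groth.L12.GenusZero.baseChange_spec (fV f hV) (fiber_dim_fV f hV hd) h1
    (f.fiberToSpecResidueField y) j b sq).1

/-- No `H¹` over every affine open of an open covered by good affine opens. -/
theorem h1_of_cover
    (H : ∀ y ∈ V, ∃ V' : Y.Opens, IsAffineOpen V' ∧ y ∈ V' ∧ (∀ z ∈ V', topologicalKrullDim ↥(f.fiber z) ≤ 1) ∧
      Subsingleton (Coh.HH (f ⁻¹ᵁ V').toScheme (Coh.structureModule (f ⁻¹ᵁ V').toScheme) 1))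
    {U : Y.Opens} (hU : IsAffineOpen U) (hUV : U ≤ V) :
    Subsingleton (Coh.HH (f ⁻¹ᵁ U).toScheme (Coh.structureModule (f ⁻¹ᵁ U).toScheme) 1) := by
  refine Groth.L12.GenusZero.subsingleton_h1_over f hU (fun y hy => ?_) fun y hy => ?_ <;>
    obtain ⟨V', hV', hyV', hd, h1⟩ := H y (hUV hy)
  · exact hd y hyV'
  · exact h1_fibre_of_affine f hV' hd h1 hyV'

/-- If functions map bijectively over an affine open, the open is flat over the base. -/
theorem flat_of_bijective (g : Y ⟶ S) (hV : IsAffineOpen V) {W : S.Opens} (hW : IsAffineOpen W)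
    (e : V ≤ g ⁻¹ᵁ W) (hflat : Flat ((f ⁻¹ᵁ V).ι ≫ f ≫ g))
    (hd : ∀ z ∈ V, topologicalKrullDim ↥(f.fiber z) ≤ 1)
    (h1 : Subsingleton (Coh.HH (f ⁻¹ᵁ V).toScheme (Coh.structureModule (f ⁻¹ᵁ V).toScheme) 1))
    (hb : Function.Bijective (f.app V)) : Flat (V.ι ≫ g) := by
  let A := Γ(S, W)
  let B := Γ(Y, V)
  haveI := isProper_fV f hV
  let fVV := fV f hV
  let AB : Spec B ⟶ Spec A := Spec.map (g.appLE W V e)
  haveI : Flat (fVV ≫ AB) := by
    haveI : Flat ((fVV ≫ AB) ≫ hW.fromSpec) := by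
      rw [Category.assoc, IsAffineOpen.SpecMap_appLE_fromSpec g hW hV e, ← Category.assoc, fV_fromSpec,
        Category.assoc]
      exact hflat
    exact Groth.L21.Nodal.flat_of_comp_etale _ hW.fromSpec
  have hflatR := flat_global (A := A) (fVV ≫ AB) (vanishing fVV (fiber_dim_fV f hV hd) h1)
  let X₁ := (f ⁻¹ᵁ V).toScheme
  let ψ : B →+* Γ(X₁, ⊤) := Coh.toGlobal (A := B) fVV
  letI : Algebra A B := (g.appLE W V e).hom.toAlgebra
  have hres : ∀ a, ψ a = X.presheaf.map (eqToHom (image_top_eq f V)).op (f.app V a) := toGlobal_fV f hV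
  have hψb : Function.Bijective ψ := by
    rw [show (ψ : B → Γ(X₁, ⊤)) = fun a => X.presheaf.map (eqToHom (image_top_eq f V)).op (f.app V a) from
      funext hres]
    exact (bijective_res (image_top_eq f V)).comp hb
  let eS : B →ₗ[A] Sec (Coh.toGlobal (A := A) (fVV ≫ AB)) (Coh.structureModule X₁) ⊤ :=
    { toFun := fun b => ψ b
      map_add' := map_add ψ
      map_smul' := fun a b => by
        show ψ (algebraMap A B a * b) = act (Coh.toGlobal (A := A) (fVV ≫ AB)) ⊤ a * ψ b
        rw [map_mul]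
        refine congrArg (· * ψ b) ?_
        refine Eq.trans ?_ (Groth.L18.Frame.ro_self le_rfl _).symm
        exact (toGlobal_comp fVV (g.appLE W V e) a).symm }
  haveI : Module.Flat A B := haveI := hflatR; Module.Flat.of_linearEquiv (LinearEquiv.ofBijective eS hψb)
  haveI : Flat AB := (HasRingHomProperty.Spec_iff (P := @Flat)).2 (show Module.Flat A B from this)
  haveI : Flat (hV.fromSpec ≫ g) := by
    rw [← IsAffineOpen.SpecMap_appLE_fromSpec g hW hV e]; infer_instance
  have : V.ι ≫ g = hV.isoSpec.hom ≫ hV.fromSpec ≫ g := by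
    rw [← Category.assoc hV.isoSpec.hom, IsAffineOpen.isoSpec_hom_fromSpec]
  rw [this]
  infer_instance

end Glob

end Groth.L12.FlatZero
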