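import Groth.Agent.L12.FlatZero.Glob

/-!
# The surjectivity and isomorphism criteria near a fibre, and their base change
-/

set_option autoImplicit false
set_option linter.style.haveILetI false
set_option linter.unusedSectionVars false
set_option backward.isDefEq.respectTransparency false
set_option backward.isDefEq.respectTransparency.types false

universe u

open CategoryTheory CategoryTheory.Limits AlgebraicGeometry TopologicalSpace Opposite
open scoped TensorProduct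

noncomputable section

namespace Groth.L12.FlatZero

open Groth.L17.BC (Sec act fV fV_fromSpec compat_of_isPullback)
open Groth.L17.BC.Classes (isPullback_fV)
open Groth.L12.GenusZero (fiber_dim_fV isProper_fV toGlobal_fV)

variable {X Y S : Scheme.{u}}

theorem flat_preimage_of_le (f : X ⟶ Y) (g : Y ⟶ S) {V O : Y.Opens} (h : V ≤ O)
    (hO : Flat ((f ⁻¹ᵁ O).ι ≫ f ≫ g)) : Flat ((f ⁻¹ᵁ V).ι ≫ f ≫ g) :=
  (flat_ι_comp _ _).2 fun x hx => (flat_ι_comp _ _).1 hO x (f.preimage_mono h hx)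

section Fibre

variable (f : X ⟶ Y) [IsProper f] (g : Y ⟶ S) [LocallyOfFiniteType g] [LocallyOfFinitePresentation (f ≫ g)]
  (s : S) (hflat : ∀ x : X, g (f x) = s → ((f ≫ g).stalkMap x).hom.Flat)
  (hdim : ∀ y' : ↥(g.fiber s), topologicalKrullDim ↑((MoreMor.fiberMap f g s).fiber y') ≤ 1)
  (hR1 : ∀ U : (g.fiber s).Opens, IsAffineOpen U → Subsingleton (Coh.HHon ((f ≫ g).fiber s)
    (Coh.structureModule ((f ≫ g).fiber s)) (MoreMor.fiberMap f g s ⁻¹ᵁ U) 1))
  (hsurj : ∀ T : (g.fiber s).Opens, IsAffineOpen T → Function.Surjective ((MoreMor.fiberMap f g s).app T))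

include hflat hdim hR1 hsurj in
/-- A neighbourhood of the fibre with good fibres, flatness and surjectivity on functions. -/
theorem exists_surjective_nhd : ∃ O : Y.Opens, g ⁻¹' {s} ⊆ (O : Set Y) ∧ Flat ((f ⁻¹ᵁ O).ι ≫ f ≫ g) ∧
    (∀ y ∈ O, topologicalKrullDim ↥(f.fiber y) ≤ 1) ∧
    (∀ y ∈ O, Subsingleton (Coh.HH (f.fiber y) (Coh.structureModule (f.fiber y)) 1)) ∧
    ∀ y ∈ O, ∃ V : Y.Opens, IsAffineOpen V ∧ y ∈ V ∧ V ≤ O ∧ Function.Surjective (f.app V) := by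
  obtain ⟨O₀, hO₀, hflat₀⟩ := exists_flat_nhd f g s hflat
  have key : ∀ y : {y : Y // g y = s}, ∃ V : Y.Opens, IsAffineOpen V ∧ y.1 ∈ V ∧ V ≤ O₀ ∧
      (∀ z ∈ V, topologicalKrullDim ↥(f.fiber z) ≤ 1) ∧
      (∀ z ∈ V, Subsingleton (Coh.HH (f.fiber z) (Coh.structureModule (f.fiber z)) 1)) ∧
      Function.Surjective (f.app V) := by
    rintro ⟨y, hy⟩
    obtain ⟨V, W, hV, hW, e, hyV, hVO, hd, h1, hfin, hker⟩ := exists_nhd_finite f g y
      (dim_of_fibre f g s hdim hy) (h1_of_fibre f g s hdim hR1 hy) O₀ (hO₀ hy) hflat₀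
    obtain ⟨V', hV', hyV', hle, hs, -⟩ := exists_basicOpen f g s hV hW e y hyV hy
      (flat_preimage_of_le f g hVO hflat₀) hd h1 hfin hker hsurj
    exact ⟨V', hV', hyV', hle.trans hVO, fun z hz => hd z (hle hz),
      fun z hz => h1_fibre_of_affine f hV hd h1 (hle hz), hs⟩
  choose V hV hy hle hd h1 hs using key
  refine ⟨⨆ y, V y, fun y hyg => Opens.mem_iSup.2 ⟨⟨y, hyg⟩, hy _⟩,
    flat_preimage_of_le f g (iSup_le hle) hflat₀, fun y hy' => ?_, fun y hy' => ?_, fun y hy' => ?_⟩ <;>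
    obtain ⟨z, hz⟩ := Opens.mem_iSup.1 hy'
  · exact hd z y hz
  · exact h1 z y hz
  · exact ⟨V z, hV z, hz, le_iSup V z, hs z⟩

include hflat hdim hR1 in
/-- A neighbourhood of the fibre with good fibres, flatness and bijectivity on functions. -/
theorem exists_iso_nhd (hiso : ∀ U : (g.fiber s).Opens, IsIso ((MoreMor.fiberMap f g s).app U)) :
    ∃ V : Y.Opens, g ⁻¹' {s} ⊆ (V : Set Y) ∧ Flat (V.ι ≫ g) ∧ Flat ((f ⁻¹ᵁ V).ι ≫ f ≫ g) ∧
      (∀ y ∈ V, topologicalKrullDim ↥(f.fiber y) ≤ 1) ∧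
      (∀ y ∈ V, Subsingleton (Coh.HH (f.fiber y) (Coh.structureModule (f.fiber y)) 1)) ∧
      ∀ U : Y.Opens, U ≤ V → IsIso (f.app U) := by
  have hbij : ∀ T : (g.fiber s).Opens, Function.Bijective ((MoreMor.fiberMap f g s).app T) := fun T =>
    haveI := hiso T
    ConcreteCategory.bijective_of_isIso _
  have hsurj : ∀ T : (g.fiber s).Opens, IsAffineOpen T → Function.Surjective ((MoreMor.fiberMap f g s).app T) :=
    fun T _ => (hbij T).2
  obtain ⟨O, hO, hflatO, hdO, h1O, hsO⟩ := exists_surjective_nhd f g s hflat hdim hR1 hsurj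
  have key : ∀ y : {y : Y // g y = s}, ∃ V : Y.Opens, IsAffineOpen V ∧ y.1 ∈ V ∧ V ≤ O ∧
      Flat (V.ι ≫ g) ∧ Function.Bijective (f.app V) := by
    rintro ⟨y, hy⟩
    obtain ⟨V, W, hV, hW, e, hyV, hVO, hd, h1, hfin, hker⟩ := exists_nhd_finite f g y
      (dim_of_fibre f g s hdim hy) (h1_of_fibre f g s hdim hR1 hy) O (hO hy) hflatO
    obtain ⟨-, -, -, -, -, h⟩ := exists_basicOpen f g s hV hW e y hyV hy
      (flat_preimage_of_le f g hVO hflatO) hd h1 hfin hker hsurj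
    obtain ⟨V', hV', hyV', hle, hb⟩ := h (fun _ T _ => (hbij T).1) (surjective_of_cover f hsO hV hVO)
    refine ⟨V', hV', hyV', hle.trans hVO, flat_of_bijective f g hV' hW (hle.trans e)
      (flat_preimage_of_le f g (hle.trans hVO) hflatO) (fun z hz => hd z (hle hz)) ?_ hb, hb⟩
    exact Groth.L12.GenusZero.subsingleton_h1_over f hV' (fun z hz => hd z (hle hz))
      fun z hz => h1O z (hVO (hle hz))
  choose V hV hy hle hfl hb using key
  refine ⟨⨆ y, V y, fun y hyg => Opens.mem_iSup.2 ⟨⟨y, hyg⟩, hy _⟩, (flat_ι_comp _ _).2 fun x hx => ?_,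
    flat_preimage_of_le f g (iSup_le hle) hflatO, fun y hy' => hdO y (iSup_le hle hy'),
    fun y hy' => h1O y (iSup_le hle hy'), fun U hU => isIso_of_cover f (fun y hy' => ?_) hU⟩
  · obtain ⟨z, hz⟩ := Opens.mem_iSup.1 hx
    exact (flat_ι_comp _ _).1 (hfl z) x hz
  · obtain ⟨z, hz⟩ := Opens.mem_iSup.1 hy'
    exact ⟨V z, hV z, hz, le_iSup V z, hb z⟩

end Fibre

/-- Bijectivity on global functions over an affine scheme survives base change of a flat scheme without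
higher cohomology. -/
theorem bijective_appTop_baseChange {A A' : Type u} [CommRing A] [CommRing A'] [Algebra A A']
    {X Y X' Y' : Scheme.{u}} [IsAffine Y] (f : X ⟶ Y) (gY : Y ⟶ Spec (CommRingCat.of A))
    [IsSeparated (f ≫ gY)] [QuasiCompact (f ≫ gY)] [Flat (f ≫ gY)]
    (hvan : ∀ p : ℕ, 1 ≤ p → Subsingleton (Coh.HH X (Coh.structureModule X) p))
    (f' : X' ⟶ Y') (gY' : Y' ⟶ Spec (CommRingCat.of A')) (pY : Y' ⟶ Y) (pX : X' ⟶ X)
    (sqY : IsPullback pY gY' gY (Spec.map (CommRingCat.ofHom (algebraMap A A'))))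
    (sqX : IsPullback pX f' f pY) (hb : Function.Bijective f.appTop) : Function.Bijective f'.appTop := by
  have hbX := isBaseChange_global (f ≫ gY) hvan (f' ≫ gY') pX (sqX.paste_vert sqY)
  have hbY := isBaseChange_pullO gY gY' pY sqY (V := ⊤) (isAffineOpen_top Y) (W := ⊤) rfl
  let φ : Sec (Coh.toGlobal gY) (Coh.structureModule Y) ⊤ →ₗ[A]
      Sec (Coh.toGlobal (f ≫ gY)) (Coh.structureModule X) ⊤ :=
    { toFun := fun r => f.appTop r
      map_add' := map_add f.appTop.hom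
      map_smul' := fun a r => by
        show f.appTop (act (Coh.toGlobal gY) ⊤ a * (show Γ(Y, ⊤) from r)) =
          act (Coh.toGlobal (f ≫ gY)) ⊤ a * f.appTop (show Γ(Y, ⊤) from r)
        rw [map_mul]
        refine congrArg (· * _) ((congrArg f.appTop (Groth.L18.Frame.ro_self le_rfl _)).trans ?_)
        refine Eq.trans ?_ (Groth.L18.Frame.ro_self le_rfl _).symm
        show _ = ((Scheme.ΓSpecIso (CommRingCat.of A)).inv ≫ (f ≫ gY).appTop) a
        rw [Scheme.Hom.comp_appTop]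
        rfl }
  let φ' : Sec (Coh.toGlobal gY') (Coh.structureModule Y') ⊤ →ₗ[A']
      Sec (Coh.toGlobal (f' ≫ gY')) (Coh.structureModule X') ⊤ :=
    { toFun := fun r => f'.appTop r
      map_add' := map_add f'.appTop.hom
      map_smul' := fun a r => by
        show f'.appTop (act (Coh.toGlobal gY') ⊤ a * (show Γ(Y', ⊤) from r)) =
          act (Coh.toGlobal (f' ≫ gY')) ⊤ a * f'.appTop (show Γ(Y', ⊤) from r)
        rw [map_mul]
        refine congrArg (· * _) ((congrArg f'.appTop (Groth.L18.Frame.ro_self le_rfl _)).trans ?_)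
        refine Eq.trans ?_ (Groth.L18.Frame.ro_self le_rfl _).symm
        show _ = ((Scheme.ΓSpecIso (CommRingCat.of A')).inv ≫ (f' ≫ gY').appTop) a
        rw [Scheme.Hom.comp_appTop]
        rfl }
  have key : ∀ t, φ' (hbY.equiv t) = hbX.equiv (φ.lTensor A' t) := fun t => by
    induction t using TensorProduct.induction_on with
    | zero => simp
    | add a b ha hb => simp only [map_add, ha, hb]
    | tmul a r =>
      rw [LinearMap.lTensor_tmul, IsBaseChange.equiv_tmul, IsBaseChange.equiv_tmul, map_smul]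
      refine congrArg (a • ·) ?_
      show f'.appTop (Groth.L18.Frame.ro le_rfl (pY.appTop (show Γ(Y, ⊤) from r))) =
        Groth.L18.Frame.ro le_rfl (pX.appTop (f.appTop (show Γ(Y, ⊤) from r)))
      refine (congrArg f'.appTop (Groth.L18.Frame.ro_self _ _)).trans (Eq.trans ?_ (Groth.L18.Frame.ro_self _ _).symm)
      show (pY.appTop ≫ f'.appTop) (show Γ(Y, ⊤) from r) = (f.appTop ≫ pX.appTop) (show Γ(Y, ⊤) from r)
      rw [← Scheme.Hom.comp_appTop, ← Scheme.Hom.comp_appTop, sqX.w]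
  let Φ := TensorProduct.congr (LinearEquiv.refl A A') (LinearEquiv.ofBijective φ hb)
  have hΦ : ∀ t, Φ t = φ.lTensor A' t := fun t => rfl
  have h : (φ' : _ → _) = hbX.equiv ∘ Φ ∘ hbY.equiv.symm := funext fun z => by
    show φ' z = hbX.equiv (Φ (hbY.equiv.symm z))
    rw [hΦ, ← key, LinearEquiv.apply_symm_apply]
  show Function.Bijective φ'
  rw [h]
  exact hbX.equiv.bijective.comp (Φ.bijective.comp hbY.equiv.symm.bijective)

/-- Bijectivity on functions over an open survives base change of the base scheme. -/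
theorem isIso_baseChange (f : X ⟶ Y) [IsProper f] (g : Y ⟶ S) {V : Y.Opens}
    (hflat : Flat ((f ⁻¹ᵁ V).ι ≫ f ≫ g)) (hd : ∀ y ∈ V, topologicalKrullDim ↥(f.fiber y) ≤ 1)
    (h1 : ∀ y ∈ V, Subsingleton (Coh.HH (f.fiber y) (Coh.structureModule (f.fiber y)) 1))
    (hiso : ∀ U : Y.Opens, U ≤ V → IsIso (f.app U))
    {S' X' Y' : Scheme.{u}} (b : S' ⟶ S) (g' : Y' ⟶ S') (f' : X' ⟶ Y') [IsProper f'] (pY : Y' ⟶ Y) (pX : X' ⟶ X)
    (sqY : IsPullback pY g' g b) (sqX : IsPullback pX f' f pY) (U : Y'.Opens) (hU : U ≤ pY ⁻¹ᵁ V) :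
    IsIso (f'.app U) := by
  refine isIso_of_cover f' (fun y hy => ?_) hU
  obtain ⟨_, ⟨W, hW, rfl⟩, hyW, -⟩ :=
    S.isBasis_affineOpens.exists_subset_of_mem_open (Set.mem_univ (g (pY y))) isOpen_univ
  replace hW : IsAffineOpen W := hW
  obtain ⟨V₀, hV₀, hyV₀, hle⟩ := exists_isAffineOpen_mem_and_subset (x := pY y) (U := V ⊓ g ⁻¹ᵁ W) ⟨hy, hyW⟩
  obtain ⟨W', hW', hyW', hle'⟩ := exists_isAffineOpen_mem_and_subset (x := g' y) (U := b ⁻¹ᵁ W) (by
    show b (g' y) ∈ W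
    rw [← Scheme.Hom.comp_apply, ← sqY.w]
    exact hyW)
  have e : V₀ ≤ g ⁻¹ᵁ W := hle.trans inf_le_right
  have e' : W' ≤ b ⁻¹ᵁ W := hle'
  let A := Γ(S, W)
  let A' := Γ(S', W')
  letI : Algebra A A' := (b.appLE W W' e').hom.toAlgebra
  let ψ := Spec.map (b.appLE W W' e')
  haveI : IsAffine V₀.toScheme := hV₀
  let gY : V₀.toScheme ⟶ Spec A := hV₀.isoSpec.hom ≫ Spec.map (g.appLE W V₀ e)
  have hgY : gY ≫ hW.fromSpec = V₀.ι ≫ g := by
    rw [Category.assoc, IsAffineOpen.SpecMap_appLE_fromSpec g hW hV₀ e, ← Category.assoc,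
      IsAffineOpen.isoSpec_hom_fromSpec]
  have hψ : ψ ≫ hW.fromSpec = hW'.fromSpec ≫ b := IsAffineOpen.SpecMap_appLE_fromSpec b hW hW' e'
  let P := pullback gY ψ
  let p₁ : P ⟶ V₀.toScheme := pullback.fst gY ψ
  let p₂ : P ⟶ Spec A' := pullback.snd gY ψ
  have sqP : IsPullback p₁ p₂ gY ψ := IsPullback.of_hasPullback _ _
  have sqP' : IsPullback p₁ p₂ (V₀.ι ≫ g) (hW'.fromSpec ≫ b) := by
    rw [← hgY, ← hψ]; exact isPullback_comp_mono sqP hW.fromSpec
  have sqW' : IsPullback ((g' ⁻¹ᵁ W').ι ≫ pY) (fV g' hW') g (hW'.fromSpec ≫ b) :=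
    (isPullback_fV g' hW').paste_horiz sqY
  let l := sqW'.lift (p₁ ≫ V₀.ι) p₂ (by rw [Category.assoc]; exact sqP'.w)
  have hl : l ≫ (g' ⁻¹ᵁ W').ι ≫ pY = p₁ ≫ V₀.ι := sqW'.lift_fst _ _ _
  have sql : IsPullback p₁ l V₀.ι ((g' ⁻¹ᵁ W').ι ≫ pY) :=
    IsPullback.of_bot (by rw [sqW'.lift_snd]; exact sqP') hl.symm sqW'
  haveI : IsOpenImmersion l := MorphismProperty.of_isPullback sql inferInstance
  let oY := l ≫ (g' ⁻¹ᵁ W').ι
  let W₁ := oY.opensRange
  have hW₁ : IsAffineOpen W₁ := isAffineOpen_opensRange oY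
  let i := oY.isoOpensRange
  let q : W₁.toScheme ⟶ V₀.toScheme := i.inv ≫ p₁
  have hq : q ≫ V₀.ι = W₁.ι ≫ pY := by
    have hi : i.inv ≫ oY = W₁.ι := by
      rw [Iso.inv_comp_eq]; exact (oY.isoOpensRange_hom_ι).symm
    rw [Category.assoc, ← hl, ← hi]
    simp only [oY, Category.assoc]
  have hW₁V : W₁ ≤ pY ⁻¹ᵁ V₀ := fun z hz => by
    obtain ⟨t, rfl⟩ := hz
    show pY (((l ≫ (g' ⁻¹ᵁ W').ι) t)) ∈ V₀
    rw [← Scheme.Hom.comp_apply, Category.assoc, hl, Scheme.Hom.comp_apply]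
    exact (p₁ t).2
  have sqq : IsPullback q (i.inv ≫ p₂) gY ψ :=
    sqP.of_iso i (Iso.refl _) (Iso.refl _) (Iso.refl _) (by simp [q]) (by simp) (by simp) (by simp)
  let f₀ := f ∣_ V₀
  let f₁ := f' ∣_ W₁
  let k := (isPullback_morphismRestrict f V₀).flip.lift ((f' ⁻¹ᵁ W₁).ι ≫ pX) (f₁ ≫ q) (by
    rw [Category.assoc, Category.assoc, hq, sqX.w, ← Category.assoc, ← Category.assoc, morphismRestrict_ι])
  have sqk : IsPullback k f₁ f₀ q := IsPullback.of_right
    (show IsPullback (k ≫ (f ⁻¹ᵁ V₀).ι) f₁ f (q ≫ V₀.ι) by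
      rw [(isPullback_morphismRestrict f V₀).flip.lift_fst, hq]
      exact (isPullback_morphismRestrict f' W₁).flip.paste_horiz sqX)
    ((isPullback_morphismRestrict f V₀).flip.lift_snd _ _ _) (isPullback_morphismRestrict f V₀).flip
  refine ⟨W₁, hW₁, ?_, hW₁V.trans (pY.preimage_mono (hle.trans inf_le_left)), ?_⟩
  · obtain ⟨v, hv⟩ : ∃ v : V₀.toScheme, V₀.ι v = pY y := ⟨⟨_, hyV₀⟩, rfl⟩
    obtain ⟨z, -, hz⟩ := Scheme.exists_preimage_of_isPullback sql v ⟨y, hyW'⟩ hv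
    exact ⟨z, congrArg (g' ⁻¹ᵁ W').ι hz⟩
  haveI : IsSeparated (f₀ ≫ gY) := inferInstance
  haveI : QuasiCompact (f₀ ≫ gY) := inferInstance
  haveI : Flat (f₀ ≫ gY) := by
    haveI : Flat ((f₀ ≫ gY) ≫ hW.fromSpec) := by
      rw [Category.assoc, hgY, ← Category.assoc, morphismRestrict_ι, Category.assoc]
      exact flat_preimage_of_le f g (hle.trans inf_le_left) hflat
    exact Groth.L21.Nodal.flat_of_comp_etale _ hW.fromSpec
  have hd₀ : ∀ z ∈ V₀, topologicalKrullDim ↥(f.fiber z) ≤ 1 := fun z hz => hd z (hle hz).1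
  haveI := isProper_fV f hV₀
  have hvan := vanishing (fV f hV₀) (fiber_dim_fV f hV₀ hd₀)
    (Groth.L12.GenusZero.subsingleton_h1_over f hV₀ hd₀ fun z hz => h1 z (hle hz).1)
  have hb₀ : Function.Bijective f₀.appTop := by
    rw [morphismRestrict_appTop]
    haveI := hiso (V₀.ι ''ᵁ ⊤) ((V₀.ι.image_le_opensRange _).trans (V₀.opensRange_ι.le.trans (hle.trans inf_le_left)))
    exact ConcreteCategory.bijective_of_isIso _
  have hb₁ : Function.Bijective f₁.appTop :=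
    bijective_appTop_baseChange (A := A) (A' := A') f₀ gY hvan f₁ (i.inv ≫ p₂) q k sqq sqk hb₀
  rw [morphismRestrict_appTop] at hb₁
  have hb₂ : Function.Bijective (f'.app (W₁.ι ''ᵁ ⊤)) :=
    (Function.Bijective.of_comp_iff' (bijective_res (X := X') _) _).1 hb₁
  rw [show W₁.ι ''ᵁ ⊤ = W₁ by rw [Scheme.Hom.image_top_eq_opensRange, Scheme.Opens.opensRange_ι]] at hb₂
  exact hb₂

/-- The base change of a morphism with good fibres over an open has no `H¹` over affine opens. -/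
theorem h1_baseChange (f : X ⟶ Y) [IsProper f] {V : Y.Opens}
    (hd : ∀ y ∈ V, topologicalKrullDim ↥(f.fiber y) ≤ 1)
    (h1 : ∀ y ∈ V, Subsingleton (Coh.HH (f.fiber y) (Coh.structureModule (f.fiber y)) 1))
    {X' Y' : Scheme.{u}} (f' : X' ⟶ Y') [IsProper f'] (pY : Y' ⟶ Y) (pX : X' ⟶ X)
    (sqX : IsPullback pX f' f pY) {U : Y'.Opens} (hU : IsAffineOpen U) (hUV : U ≤ pY ⁻¹ᵁ V) :
    Subsingleton (Coh.HHon X' (Coh.structureModule X') (f' ⁻¹ᵁ U) 1) :=
  subsingleton_HHon f' (Groth.L12.GenusZero.subsingleton_h1_over f' hU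
    (fun y hy => Groth.L12.GenusZero.fiber_dim_le_of_isPullback sqX y (hd _ (hUV hy)))
    fun y hy => subsingleton_h1_fiber_ascend sqX y (h1 _ (hUV hy)))

end Groth.L12.FlatZero
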