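import Groth.Agent.L17.BC.CechFlat
import Groth.Agent.L16.EtaleFibre.Epi

/-!
# Flat schemes without higher cohomology: global functions are flat and commute with base change
-/

set_option autoImplicit false
set_option linter.style.haveILetI false
set_option linter.unusedSectionVars false
set_option backward.isDefEq.respectTransparency false
set_option backward.isDefEq.respectTransparency.types false

universe u

open CategoryTheory CategoryTheory.Limits AlgebraicGeometry TopologicalSpace Opposite
open scoped TensorProduct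

noncomputable section

namespace Groth.L12.FlatZero

section Alg

open Groth.L01.FlatCx

variable {A : Type u} [CommRing A] (P : CochainComplex (ModuleCat.{u} A) ℤ)

/-- With flat terms and no homology in positive degrees, positive cokernels and images are flat. -/
theorem flat_coker_pos (hP : ∀ i, Module.Flat A (P.X i)) (N : ℤ)
    (hN : ∀ j, N ≤ j → Module.Flat A (Coker P (j - 1) j)) (hH : ∀ j, 1 ≤ j → Module.Flat A (P.homology j))
    (j : ℤ) (hj1 : 1 ≤ j) :
    Module.Flat A (Coker P (j - 1) j) ∧ Module.Flat A (LinearMap.range (dd P (j - 1) j)) := by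
  have hr : ∀ j, Module.Flat A (Coker P (j - 1) j) → Module.Flat A (LinearMap.range (dd P (j - 1) j)) :=
    fun j hQ => by
      haveI := hP j
      haveI := hQ
      exact flat_left (f := (LinearMap.range (dd P (j - 1) j)).subtype) (g := (LinearMap.range (dd P (j - 1) j)).mkQ)
        (Submodule.injective_subtype _) (Submodule.mkQ_surjective _) (LinearMap.exact_subtype_mkQ _)
  suffices ∀ (k : ℕ) (j : ℤ), 1 ≤ j → N ≤ j + k → Module.Flat A (Coker P (j - 1) j) from
    ⟨this (N - j).toNat j hj1 (by omega), hr j (this (N - j).toNat j hj1 (by omega))⟩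
  intro k
  induction k with
  | zero => exact fun j _ hj => hN j (by omega)
  | succ k ih =>
    intro j hj0 hj
    have h1 := hr (j + 1) (ih (j + 1) (by omega) (by push_cast at hj ⊢; omega))
    rw [add_sub_cancel_right] at h1
    haveI := h1
    obtain ⟨φ, hφ, hex⟩ := exists_homology_toCoker P (i := j - 1) (j := j) (k := j + 1)
      ((ComplexShape.up ℤ).prev_eq' (by simp)) ((ComplexShape.up ℤ).next_eq' rfl)
    haveI : Module.Flat A ((CohIII.TFun P j).obj (ModuleCat.of A A) : Type u) :=
      haveI := hH j hj0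
      Module.Flat.of_linearEquiv (unitEquiv P j)
    exact flat_middle hφ (qr_surjective P (j - 1) j (j + 1)) hex

variable {B : Type u} [CommRing B] [Algebra A B] {M N R M' N' R' : Type u} [AddCommGroup M] [Module A M]
  [AddCommGroup N] [Module A N] [AddCommGroup R] [Module A R]
  [AddCommGroup M'] [Module A M'] [Module B M'] [IsScalarTower A B M']
  [AddCommGroup N'] [Module A N'] [Module B N'] [IsScalarTower A B N']
  [AddCommGroup R'] [Module A R'] [Module B R'] [IsScalarTower A B R']

/-- A kernel with flat image and flat cokernel commutes with base change. -/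
theorem isBaseChange_ker (d : M →ₗ[A] N) (d' : M' →ₗ[B] N') {φ : M →ₗ[A] M'} {ψ : N →ₗ[A] N'}
    (hφ : IsBaseChange B φ) (hψ : IsBaseChange B ψ) (hd : ∀ x, ψ (d x) = d' (φ x))
    [Module.Flat A (LinearMap.range d)] [Module.Flat A (N ⧸ LinearMap.range d)]
    (ε : R →ₗ[A] M) (hε : Function.Injective ε) (hex : Function.Exact ε d)
    (ε' : R' →ₗ[B] M') (hε' : Function.Injective ε') (hex' : Function.Exact ε' d')
    (π : R →ₗ[A] R') (hπ : ∀ r, φ (ε r) = ε' (π r)) : IsBaseChange B π := by
  let T := π.liftBaseChange B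
  have hT : ∀ t, ε' (T t) = hφ.equiv (ε.lTensor B t) := fun t => by
    induction t using TensorProduct.induction_on with
    | zero => simp
    | add a b ha hb => simp only [map_add, ha, hb]
    | tmul b r => rw [LinearMap.lTensor_tmul, IsBaseChange.equiv_tmul, LinearMap.liftBaseChange_tmul, map_smul, hπ]
  have hi1 : Function.Injective (ε.lTensor B) :=
    (LinearMap.lTensor_inj_iff_rTensor_inj B ε).2 (rTensor_injective_of_flat_quot (g := d.rangeRestrict) hε
      d.surjective_rangeRestrict (LinearMap.exact_iff.2 (by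
        rw [LinearMap.ker_rangeRestrict]; exact LinearMap.exact_iff.1 hex)) B)
  have hi2 : Function.Injective ((LinearMap.range d).subtype.lTensor B) :=
    (LinearMap.lTensor_inj_iff_rTensor_inj B _).2 (rTensor_injective_of_flat_quot
      (g := (LinearMap.range d).mkQ) (Submodule.injective_subtype _) (Submodule.mkQ_surjective _)
      (LinearMap.exact_subtype_mkQ _) B)
  have hd' : ∀ z, hψ.equiv (d.lTensor B z) = d' (hφ.equiv z) := fun z => by
    induction z using TensorProduct.induction_on with
    | zero => simp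
    | add a b ha hb => simp only [map_add, ha, hb]
    | tmul b x => rw [LinearMap.lTensor_tmul, IsBaseChange.equiv_tmul, IsBaseChange.equiv_tmul, hd, map_smul]
  have hex₁ : Function.Exact (ε.lTensor B) (d.rangeRestrict.lTensor B) :=
    lTensor_exact B (LinearMap.exact_iff.2 (by rw [LinearMap.ker_rangeRestrict]; exact LinearMap.exact_iff.1 hex))
      d.surjective_rangeRestrict
  refine IsBaseChange.of_equiv (LinearEquiv.ofBijective T ⟨fun a b h => ?_, fun r' => ?_⟩) fun r => ?_
  · refine hi1 (hφ.equiv.injective ?_)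
    rw [← hT, ← hT, h]
  · have hz : d.rangeRestrict.lTensor B (hφ.equiv.symm (ε' r')) = 0 := by
      refine hi2 (hψ.equiv.injective ?_)
      rw [← LinearMap.comp_apply, ← LinearMap.lTensor_comp,
        show (LinearMap.range d).subtype ∘ₗ d.rangeRestrict = d from rfl, map_zero, map_zero, hd',
        LinearEquiv.apply_symm_apply]
      exact hex'.apply_apply_eq_zero r'
    obtain ⟨t, ht⟩ := (hex₁ _).1 hz
    refine ⟨t, hε' ?_⟩
    rw [hT, ht, LinearEquiv.apply_symm_apply]
  · show T (1 ⊗ₜ r) = π r
    rw [LinearMap.liftBaseChange_tmul, one_smul]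

end Alg

open Groth.L17.BC (K K_d C Sec act resL dL dL_apply dL_dL Idx opn opn_le_erase flat_K flat_sec isZero_T_K
  exists_homology_equiv exists_affine_cover Ub preimage_opn isAffineOpen_opn isAffineHom_of_isPullback
  isPushout_sections compat_of_isPullback finite_idx subsingleton_C)
open Groth.L18.Frame (rs ro rs_rs rs_self rs_smul ro_ro ro_self)

variable {A : Type u} [CommRing A] {X : Scheme.{u}}

section Eps

variable (ρ : A →+* Coh.Γtop X) {ι : Type u} (U : ι → X.Opens)

/-- Restriction of a global function to the members of the cover. -/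
def eps : Sec ρ (Coh.structureModule X) ⊤ →ₗ[A] C ρ (Coh.structureModule X) U 0 :=
  LinearMap.pi fun _ => resL ρ (Coh.structureModule X) le_top

/-- The index of a member of the cover. -/
def one (i : ι) : Idx ι (0 : ℤ) := ⟨[i], by simp⟩

theorem le_one (i : ι) : U i ≤ opn U (one i).1 :=
  le_iInf fun k => by
    obtain ⟨k, hk⟩ := k
    simp only [one, List.length_singleton, Nat.lt_one_iff] at hk
    subst hk
    exact le_rfl

variable (hU : ⨆ i, U i = ⊤)

include hU in
theorem top_le : (⊤ : X.Opens) ≤ ⨆ i, opn U (one i).1 := fun x _ => by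
  obtain ⟨i, hi⟩ := Opens.mem_iSup.1 (hU.ge (Opens.mem_top x))
  exact Opens.mem_iSup.2 ⟨i, le_one U i hi⟩

include hU in
theorem eps_injective : Function.Injective (eps ρ U) := fun s t h =>
  X.sheaf.eq_of_locally_eq' (fun i => opn U (one i).1) ⊤ (fun i => homOfLE le_top) (top_le U hU) s t
    fun i => congrFun h (one i)

include hU in
theorem exact_eps : Function.Exact (eps ρ U) (dL ρ (Coh.structureModule X) U 0) := fun z => by
  constructor
  · intro hz
    obtain ⟨s, hs, -⟩ := X.sheaf.existsUnique_gluing' (fun i => opn U (one i).1) ⊤ (fun i => homOfLE le_top)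
      (top_le U hU) (fun i => (show Γ(X, opn U (one i).1) from z (one i))) fun i j => by
        let e : Idx ι ((0 : ℤ) + 1) := ⟨[i, j], by simp⟩
        have hle : opn U (one i).1 ⊓ opn U (one j).1 ≤ opn U e.1 := le_iInf fun k =>
          Fin.cases (inf_le_left.trans (iInf_le (fun k : Fin (one i).1.length => U (one i).1[k.1]) ⟨0, by simp [one]⟩))
            (fun k' => Fin.cases (inf_le_right.trans
              (iInf_le (fun k : Fin (one j).1.length => U (one j).1[k.1]) ⟨0, by simp [one]⟩))
              (fun k'' => k''.elim0) k') k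
        have h := congrFun hz e
        rw [dL_apply _ _ _ le_rfl] at h
        erw [Fin.sum_univ_two] at h
        simp only [Fin.val_zero, Fin.val_one, pow_zero, one_smul, pow_one, neg_smul, ← sub_eq_add_neg] at h
        have h' : resL ρ (Coh.structureModule X) (opn_le_erase U e.1 0) (z (one j)) =
            resL ρ (Coh.structureModule X) (opn_le_erase U e.1 1) (z (one i)) := sub_eq_zero.1 h
        have h'' := congrArg (fun v : Γ(X, opn U e.1) => ro hle v) h'
        exact (ro_ro (opn_le_erase U e.1 1) hle _).symm.trans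
          (h''.symm.trans (ro_ro (opn_le_erase U e.1 0) hle _))
    refine ⟨s, funext fun a => ?_⟩
    obtain ⟨l, hl⟩ := a
    obtain ⟨i, rfl⟩ : ∃ i, l = [i] := List.length_eq_one_iff.1 (by omega)
    exact hs i
  · rintro ⟨s, rfl⟩
    funext e
    rw [dL_apply _ _ _ le_rfl]
    have hl : e.1.length = 2 := by have := e.2.1; omega
    rw [← (Fin.castOrderIso hl.symm).toEquiv.sum_comp, Fin.sum_univ_two]
    simp only [RelIso.coe_fn_toEquiv, Fin.castOrderIso_apply, Fin.val_cast, Fin.val_zero, Fin.val_one, pow_zero,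
      one_smul, pow_one, neg_smul, ← sub_eq_add_neg]
    exact sub_eq_zero.2 ((ro_ro le_top _ (show Γ(X, ⊤) from s)).trans (ro_ro le_top _ (show Γ(X, ⊤) from s)).symm)

end Eps

section Pull

variable {B : Type u} [CommRing B] [Algebra A B] {X' : Scheme.{u}} (g : X' ⟶ X) (ρ : A →+* Coh.Γtop X)
  (ρ' : B →+* Coh.Γtop X') (hc : Groth.L17.BC.Compat g ρ ρ')

instance secA (W : X'.Opens) : Module A (Sec ρ' (Coh.structureModule X') W) := Module.compHom _ (algebraMap A B)

instance secTower (W : X'.Opens) : IsScalarTower A B (Sec ρ' (Coh.structureModule X') W) :=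
  IsScalarTower.of_algebraMap_smul fun _ _ => rfl

/-- Pullback of functions. -/
def pullO {V : X.Opens} {W : X'.Opens} (e : W ≤ g ⁻¹ᵁ V) :
    Sec ρ (Coh.structureModule X) V →ₗ[A] Sec ρ' (Coh.structureModule X') W where
  toFun m := ro e (g.app V m)
  map_add' m m' := (congrArg (ro e) (map_add (g.app V).hom m m')).trans (map_add (X'.presheaf.map (homOfLE e).op).hom _ _)
  map_smul' a m := by
    show ro e (g.app V (act ρ V a * (show Γ(X, V) from m))) =
      act ρ' W (algebraMap A B a) * ro e (g.app V (show Γ(X, V) from m))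
    refine (congrArg (ro e) (map_mul (g.app V).hom _ _)).trans ?_
    refine (map_mul (X'.presheaf.map (homOfLE e).op).hom _ _).trans ?_
    exact congrArg (· * _) (Groth.L17.BC.app_act g ρ ρ' e a _ (hc a))

theorem pullO_res {V V' : X.Opens} {W W' : X'.Opens} (e : W ≤ g ⁻¹ᵁ V) (e' : W' ≤ g ⁻¹ᵁ V')
    (h : V' ≤ V) (h' : W' ≤ W) (m : Sec ρ (Coh.structureModule X) V) :
    resL ρ' (Coh.structureModule X') h' (pullO g ρ ρ' hc e m) = pullO g ρ ρ' hc e' (resL ρ (Coh.structureModule X) h m) := by
  show ro h' (ro e (g.app V m)) = ro e' (g.app V' (ro h m))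
  rw [show g.app V' (ro h m) = ro (g.preimage_mono h) (g.app V m) from
    ConcreteCategory.congr_hom (g.naturality (homOfLE h).op) m, ro_ro, ro_ro]

variable {ι : Type u} (U : ι → X.Opens)

/-- Pullback of cochains of functions. -/
def pullC (i : ℤ) : C ρ (Coh.structureModule X) U i →ₗ[A] C ρ' (Coh.structureModule X') (Ub g U) i :=
  LinearMap.pi fun a => (pullO g ρ ρ' hc (preimage_opn g U a.1).ge).comp
    (LinearMap.proj (φ := fun b : Idx ι i => Sec ρ (Coh.structureModule X) (opn U b.1)) a)

theorem pullC_d (x : C ρ (Coh.structureModule X) U 0) :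
    pullC g ρ ρ' hc U (0 + 1) (dL ρ (Coh.structureModule X) U 0 x) =
      dL ρ' (Coh.structureModule X') (Ub g U) 0 (pullC g ρ ρ' hc U 0 x) := by
  funext a
  rw [dL_apply ρ' _ (Ub g U) le_rfl]
  show pullO g ρ ρ' hc _ (dL ρ (Coh.structureModule X) U 0 x a) = _
  rw [dL_apply ρ _ U le_rfl, map_sum]
  refine Finset.sum_congr rfl fun k _ => ?_
  rw [map_zsmul]
  exact congrArg _ (pullO_res g ρ ρ' hc _ _ _ _ _).symm

end Pull

variable (f : X ⟶ Spec (CommRingCat.of A))

theorem isBaseChange_pullO {B : Type u} [CommRing B] [Algebra A B] {X' : Scheme.{u}}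
    (f' : X' ⟶ Spec (CommRingCat.of B)) (g : X' ⟶ X)
    (sq : IsPullback g f' f (Spec.map (CommRingCat.ofHom (algebraMap A B)))) {V : X.Opens} (hV : IsAffineOpen V)
    {W : X'.Opens} (e : W = g ⁻¹ᵁ V) :
    IsBaseChange B (pullO g (Coh.toGlobal f) (Coh.toGlobal f') (compat_of_isPullback f f' g sq) e.le) := by
  subst e
  set ρ := Coh.toGlobal f
  set ρ' := Coh.toGlobal f'
  let W := g ⁻¹ᵁ V
  letI : Algebra A Γ(X, V) := (act ρ V).toAlgebra
  letI : Algebra B Γ(X', W) := (act ρ' W).toAlgebra
  letI : Algebra Γ(X, V) Γ(X', W) := (g.appLE V W le_rfl).hom.toAlgebra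
  letI : Algebra A Γ(X', W) := ((act ρ' W).comp (algebraMap A B)).toAlgebra
  haveI : IsScalarTower A B Γ(X', W) := IsScalarTower.of_algebraMap_eq fun _ => rfl
  have hpo := isPushout_sections f f' g sq hV
  haveI : IsScalarTower A Γ(X, V) Γ(X', W) := IsScalarTower.of_algebraMap_eq fun a => by
    show act ρ' W (algebraMap A B a) = g.appLE V W le_rfl (act ρ V a)
    rw [← Scheme.Hom.app_eq_appLE]
    exact (ConcreteCategory.congr_hom hpo.w a).symm
  haveI : Algebra.IsPushout A B Γ(X, V) Γ(X', W) := by
    refine CommRingCat.isPushout_iff_isPushout.1 ?_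
    have : CommRingCat.ofHom (algebraMap Γ(X, V) Γ(X', W)) = g.app V := g.app_eq_appLE.symm
    rw [this]
    exact hpo.flip
  have hbc := (Algebra.IsPushout.out : IsBaseChange B (IsScalarTower.toAlgHom A Γ(X, V) Γ(X', W)).toLinearMap)
  let e₁ : Γ(X, V) ≃ₗ[A] Sec ρ (Coh.structureModule X) V :=
    { (AddEquiv.refl Γ(X, V)) with map_smul' := fun a s => rfl }
  let e₂ : Γ(X', W) ≃ₗ[B] Sec ρ' (Coh.structureModule X') W :=
    { (AddEquiv.refl Γ(X', W)) with map_smul' := fun a s => rfl }
  refine IsBaseChange.of_equiv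
    ((TensorProduct.AlgebraTensorModule.congr (LinearEquiv.refl B B) e₁.symm).trans (hbc.equiv.trans e₂)) fun x => ?_
  show hbc.equiv (1 ⊗ₜ (show Γ(X, V) from x)) = _
  rw [IsBaseChange.equiv_tmul, one_smul]
  show g.appLE V W le_rfl (show Γ(X, V) from x) = ro le_rfl (g.app V (show Γ(X, V) from x))
  rfl

variable [IsSeparated f] [QuasiCompact f] [Flat f]
  (hvan : ∀ p : ℕ, 1 ≤ p → Subsingleton (Coh.HH X (Coh.structureModule X) p))

include hvan in
theorem exists_flat_cover : ∃ (ι : Type u) (_ : Finite ι) (U : ι → X.Opens), ⨆ i, U i = ⊤ ∧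
    (∀ (n : ℕ) (a : Fin (n + 1) → ι), IsAffineOpen (⨅ k, U (a k))) ∧
    Module.Flat A ((K (Coh.toGlobal f) (Coh.structureModule X) U).X 0) ∧
    Module.Flat A (LinearMap.range (dL (Coh.toGlobal f) (Coh.structureModule X) U 0)) ∧
    Module.Flat A (C (Coh.toGlobal f) (Coh.structureModule X) U (0 + 1) ⧸
      LinearMap.range (dL (Coh.toGlobal f) (Coh.structureModule X) U 0)) := by
  haveI : Coh.IsQCoh (Coh.structureModule X) := Groth.L16.EtaleFibre.isQCoh_structure
  haveI : CompactSpace X := QuasiCompact.compactSpace_of_compactSpace f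
  haveI : X.IsSeparated := ⟨by rw [← terminal.comp_from f]; infer_instance⟩
  obtain ⟨t, U, hcov, haff⟩ := exists_affine_cover (X := X)
  let P := K (Coh.toGlobal f) (Coh.structureModule X) U
  have hP : ∀ i, Module.Flat A (P.X i) :=
    flat_K f U _ (fun V hV => flat_sec f _ (Groth.L16.EtaleFibre.isFlatOver_structure f) hV) haff
  have hH : ∀ j : ℤ, 1 ≤ j → Module.Flat A (P.homology j) := fun j hj => by
    obtain ⟨m, rfl⟩ : ∃ m : ℕ, j = m := ⟨j.toNat, (Int.toNat_of_nonneg (by omega)).symm⟩
    obtain ⟨em⟩ := exists_homology_equiv (Coh.toGlobal f) (Coh.structureModule X) U hcov haff m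
    haveI := hvan m (by omega)
    haveI : Subsingleton (P.homology (m : ℤ)) := em.toEquiv.subsingleton
    exact Module.Flat.of_linearEquiv (M := PUnit.{u + 1}) (LinearEquiv.ofSubsingleton _ _)
  have hN : ∀ j, (Nat.card (ULift.{u} (Fin t)) : ℤ) ≤ j → Module.Flat A (Groth.L01.FlatCx.Coker P (j - 1) j) :=
    fun j hj => by
      refine (Groth.L01.FlatCx.preservesMono_iff P (i := j - 1) (j := j)
        ((ComplexShape.up ℤ).prev_eq' (by simp)) hP).1 ⟨fun {M N} g _ => ?_⟩
      rw [ModuleCat.mono_iff_injective]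
      haveI := ModuleCat.subsingleton_of_isZero (isZero_T_K f U (Coh.structureModule X) hcov haff M j hj)
      exact fun a a' _ => Subsingleton.elim (α := CohIII.T P j M) a a'
  have hdd : Groth.L01.FlatCx.dd P 0 (0 + 1) = dL (Coh.toGlobal f) (Coh.structureModule X) U 0 :=
    LinearMap.ext (K_d (Coh.toGlobal f) (Coh.structureModule X) U 0)
  obtain ⟨h1, h2⟩ : Module.Flat A (Groth.L01.FlatCx.Coker P 0 (0 + 1)) ∧
      Module.Flat A (LinearMap.range (Groth.L01.FlatCx.dd P 0 (0 + 1))) := by
    have h := flat_coker_pos P hP _ hN hH (0 + 1) (by omega)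
    rwa [add_sub_cancel_right] at h
  refine ⟨_, inferInstance, U, hcov, haff, hP 0, ?_, ?_⟩
  · rw [← hdd]; exact h2
  · rw [← hdd]; exact h1

include hvan in
/-- The global functions are flat over the base. -/
theorem flat_global : Module.Flat A (Sec (Coh.toGlobal f) (Coh.structureModule X) ⊤) := by
  obtain ⟨ι, _, U, hcov, -, h0, h1, -⟩ := exists_flat_cover f hvan
  haveI : Module.Flat A (C (Coh.toGlobal f) (Coh.structureModule X) U 0) := h0
  exact Groth.L01.FlatCx.flat_left (f := eps (Coh.toGlobal f) U)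
    (g := (dL (Coh.toGlobal f) (Coh.structureModule X) U 0).rangeRestrict) (eps_injective _ U hcov)
    (dL (Coh.toGlobal f) (Coh.structureModule X) U 0).surjective_rangeRestrict
    (LinearMap.exact_iff.2 (by
      rw [LinearMap.ker_rangeRestrict]; exact LinearMap.exact_iff.1 (exact_eps _ U hcov)))

include hvan in
/-- Global functions commute with every base change. -/
theorem isBaseChange_global {B : Type u} [CommRing B] [Algebra A B] {X' : Scheme.{u}}
    (f' : X' ⟶ Spec (CommRingCat.of B)) (g : X' ⟶ X)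
    (sq : IsPullback g f' f (Spec.map (CommRingCat.ofHom (algebraMap A B)))) :
    IsBaseChange B (pullO g (Coh.toGlobal f) (Coh.toGlobal f') (compat_of_isPullback f f' g sq)
      (V := ⊤) (W := ⊤) le_rfl) := by
  obtain ⟨ι, _, U, hcov, haff, -, h1, h2⟩ := exists_flat_cover f hvan
  haveI := h1; haveI := h2
  haveI := isAffineHom_of_isPullback f f' g sq
  let hc := compat_of_isPullback f f' g sq
  have hbc : ∀ i : ℤ, IsBaseChange B (pullC g (Coh.toGlobal f) (Coh.toGlobal f') hc U i) := fun i => by
    haveI := finite_idx (ι := ι) i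
    exact IsBaseChange.pi _ fun a =>
      isBaseChange_pullO f f' g sq (isAffineOpen_opn U haff a) (preimage_opn g U a.1).symm
  have hcov' : ⨆ i, Ub g U i = ⊤ := top_unique fun x _ => by
    obtain ⟨i, hi⟩ := Opens.mem_iSup.1 (hcov.ge (Opens.mem_top (g x)))
    exact Opens.mem_iSup.2 ⟨i, hi⟩
  refine isBaseChange_ker (dL (Coh.toGlobal f) (Coh.structureModule X) U 0)
    (dL (Coh.toGlobal f') (Coh.structureModule X') (Ub g U) 0) (hbc 0) (hbc (0 + 1))
    (pullC_d g _ _ hc U) (eps (Coh.toGlobal f) U) (eps_injective _ U hcov) (exact_eps _ U hcov)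
    (eps (Coh.toGlobal f') (Ub g U)) (eps_injective _ _ hcov') (exact_eps _ _ hcov') _ fun r => ?_
  funext a
  exact (pullO_res g (Coh.toGlobal f) (Coh.toGlobal f') hc (le_refl _) _ le_top le_top r).symm

end Groth.L12.FlatZero
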