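import Groth.Agent.L12.FlatZero.Assemble

/-!
# Proper morphisms inducing isomorphisms on functions: cancellation and factorisation
-/

set_option autoImplicit false
set_option linter.style.haveILetI false
set_option linter.unusedSectionVars false
set_option backward.isDefEq.respectTransparency false
set_option backward.isDefEq.respectTransparency.types false

universe u

open CategoryTheory CategoryTheory.Limits AlgebraicGeometry TopologicalSpace Opposite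

noncomputable section

namespace Groth.L12.FlatZero

variable {X Y Z : Scheme.{u}}

/-- The functions are pushed forward isomorphically. -/
def IsoApps (c : X ⟶ Y) : Prop := ∀ U : Y.Opens, IsIso (c.app U)

theorem isoApps_restrict {c : X ⟶ Y} {A : Y.Opens} (h : ∀ U ≤ A, IsIso (c.app U)) : IsoApps (c ∣_ A) := fun U => by
  rw [morphismRestrict_app]
  haveI := h (A.ι ''ᵁ U) ((A.ι.image_le_opensRange _).trans A.opensRange_ι.le)
  infer_instance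

variable (c : X ⟶ Y) [IsProper c] (hc : IsoApps c)

include hc in
theorem surjective_of_isoApps : Function.Surjective c := fun y => by
  by_contra hy
  let W : Y.Opens := ⟨_, c.isClosedMap.isClosed_range.isOpen_compl⟩
  have hyW : y ∈ W := hy
  have h0 : c ⁻¹ᵁ W = ⊥ := Opens.ext (Set.eq_empty_iff_forall_notMem.2 fun x hx => hx ⟨x, rfl⟩)
  haveI := hc W
  haveI : Subsingleton Γ(X, c ⁻¹ᵁ W) := h0 ▸ inferInstance
  haveI : Subsingleton Γ(Y, W) := (ConcreteCategory.bijective_of_isIso (c.app W)).1.subsingleton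
  exact zero_ne_one (α := Y.presheaf.stalk y) (by
    rw [← map_zero (Y.presheaf.germ W y hyW).hom, ← map_one (Y.presheaf.germ W y hyW).hom,
      Subsingleton.elim (0 : Γ(Y, W)) 1])

include hc in
/-- Cancellation. -/
theorem eq_of_comp_eq {a b : Y ⟶ Z} (h : c ≫ a = c ≫ b) : a = b := by
  have hpt : ∀ y, a y = b y := fun y => by
    obtain ⟨x, rfl⟩ := surjective_of_isoApps c hc y
    rw [← Scheme.Hom.comp_apply, h, Scheme.Hom.comp_apply]
  refine Scheme.Cover.hom_ext (Y.openCoverOfIsOpenCover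
    (fun W : Z.affineOpens => a ⁻¹ᵁ W.1) (top_unique fun y _ => by
      obtain ⟨_, ⟨W, hW, rfl⟩, hyW, -⟩ :=
        Z.isBasis_affineOpens.exists_subset_of_mem_open (Set.mem_univ (a y)) isOpen_univ
      exact Opens.mem_iSup.2 ⟨⟨W, hW⟩, hyW⟩)) _ _ fun W => ?_
  let A : Y.Opens := a ⁻¹ᵁ W.1
  show A.ι ≫ a = A.ι ≫ b
  have ha' : Set.range (A.ι ≫ a) ⊆ Set.range W.1.ι := by
    rintro _ ⟨z, rfl⟩
    rw [Scheme.Opens.range_ι]
    exact z.2
  have hb' : Set.range (A.ι ≫ b) ⊆ Set.range W.1.ι := by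
    rintro _ ⟨z, rfl⟩
    rw [Scheme.Opens.range_ι, Scheme.Hom.comp_apply, ← hpt]
    exact z.2
  haveI : IsAffine W.1.toScheme := W.2
  rw [← IsOpenImmersion.lift_fac W.1.ι _ ha', ← IsOpenImmersion.lift_fac W.1.ι _ hb']
  congr 1
  refine ext_of_isAffine ?_
  haveI := isoApps_restrict (c := c) (A := A) (fun U _ => hc U) ⊤
  have hk : (c ∣_ A) ≫ IsOpenImmersion.lift W.1.ι _ ha' = (c ∣_ A) ≫ IsOpenImmersion.lift W.1.ι _ hb' := by
    rw [← cancel_mono W.1.ι, Category.assoc, Category.assoc, IsOpenImmersion.lift_fac,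
      IsOpenImmersion.lift_fac, ← Category.assoc, ← Category.assoc, morphismRestrict_ι, Category.assoc,
      Category.assoc, h]
  have := congrArg Scheme.Hom.appTop hk
  rw [Scheme.Hom.comp_appTop, Scheme.Hom.comp_appTop] at this
  exact (cancel_mono (c ∣_ A).appTop).1 this

include hc in
/-- A morphism into an affine scheme factors. -/
theorem exists_factor_affine [IsAffine Z] (b : X ⟶ Z) : ∃ a : Y ⟶ Z, c ≫ a = b := by
  haveI : IsIso c.appTop := hc ⊤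
  refine ⟨Y.toSpecΓ ≫ Spec.map (b.appTop ≫ inv c.appTop) ≫ Z.isoSpec.inv, ?_⟩
  rw [Scheme.toSpecΓ_naturality_assoc, ← Spec.map_comp_assoc, Category.assoc, IsIso.inv_hom_id,
    Category.comp_id, ← Scheme.toSpecΓ_naturality_assoc, Scheme.toSpecΓ_isoSpec_inv, Category.comp_id]

/-- A morphism which contracts the fibres over a set factors near that set. -/
theorem exists_factor (c : X ⟶ Y) [IsProper c] (b : X ⟶ Z) {V : Y.Opens} (hV : ∀ U ≤ V, IsIso (c.app U))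
    (T : Set Y) (hTV : T ⊆ V) (hT : ∀ y ∈ T, ∃ z, ∀ x, c x = y → b x = z) :
    ∃ (A : Y.Opens) (a : A.toScheme ⟶ Z), T ⊆ A ∧ A ≤ V ∧ (c ∣_ A) ≫ a = (c ⁻¹ᵁ A).ι ≫ b := by
  let W : Z.affineOpens → Y.Opens := fun P =>
    V ⊓ ⟨_, (c.isClosedMap _ (b ⁻¹ᵁ P.1).isOpen.isClosed_compl).isOpen_compl⟩
  let A : Y.Opens := ⨆ P, W P
  have hAV : A ≤ V := iSup_le fun P => inf_le_left
  have hTA : T ⊆ A := fun y hy => by
    obtain ⟨z, hz⟩ := hT y hy
    obtain ⟨_, ⟨P, hP, rfl⟩, hzP, -⟩ :=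
      Z.isBasis_affineOpens.exists_subset_of_mem_open (Set.mem_univ z) isOpen_univ
    exact Opens.mem_iSup.2 ⟨⟨P, hP⟩, hTV hy, fun ⟨x, hx, hxy⟩ => hx (show b x ∈ P from hz x hxy ▸ hzP)⟩
  have hfac : ∀ P, ∃ a : (W P).toScheme ⟶ Z, (c ∣_ W P) ≫ a = (c ⁻¹ᵁ W P).ι ≫ b := fun P => by
    have hr : Set.range ((c ⁻¹ᵁ W P).ι ≫ b) ⊆ Set.range P.1.ι := by
      rintro _ ⟨x, rfl⟩
      rw [Scheme.Opens.range_ι]
      exact by_contra fun h => x.2.2 ⟨x.1, h, rfl⟩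
    haveI : IsAffine P.1.toScheme := P.2
    obtain ⟨a, ha⟩ := exists_factor_affine (c ∣_ W P)
      (isoApps_restrict fun U hU => hV U (hU.trans inf_le_left)) (IsOpenImmersion.lift P.1.ι _ hr)
    exact ⟨a ≫ P.1.ι, by rw [← Category.assoc, ha, IsOpenImmersion.lift_fac]⟩
  choose a ha using hfac
  have hres : ∀ {B : Y.Opens} (P) (hB : B ≤ W P),
      (c ∣_ B) ≫ Y.homOfLE hB ≫ a P = (c ⁻¹ᵁ B).ι ≫ b := fun {B} P hB => by
    have h : (c ∣_ B) ≫ Y.homOfLE hB = X.homOfLE (c.preimage_mono hB) ≫ (c ∣_ W P) := by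
      rw [← cancel_mono (W P).ι]
      simp
    rw [reassoc_of% h, ha, ← Category.assoc, Scheme.homOfLE_ι]
  let 𝒰 := A.toScheme.openCoverOfIsOpenCover (fun P => A.ι ⁻¹ᵁ W P)
    (top_unique fun y _ => by
      obtain ⟨P, hP⟩ := Opens.mem_iSup.1 y.2
      exact Opens.mem_iSup.2 ⟨P, hP⟩)
  let q : ∀ P, (A.ι ⁻¹ᵁ W P).toScheme ⟶ Z := fun P => (A.ι ∣_ W P) ≫ a P
  have hq : ∀ P P', pullback.fst (A.ι ⁻¹ᵁ W P).ι (A.ι ⁻¹ᵁ W P').ι ≫ q P =
      pullback.snd (A.ι ⁻¹ᵁ W P).ι (A.ι ⁻¹ᵁ W P').ι ≫ q P' := fun P P' => by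
    let B := W P ⊓ W P'
    have e : Y.homOfLE (inf_le_left : B ≤ W P) ≫ a P = Y.homOfLE (inf_le_right : B ≤ W P') ≫ a P' :=
      eq_of_comp_eq (c ∣_ B) (isoApps_restrict fun U hU => hV U (hU.trans (inf_le_left.trans inf_le_left)))
        (by rw [hres P, hres P'])
    let p := pullback.fst (A.ι ⁻¹ᵁ W P).ι (A.ι ⁻¹ᵁ W P').ι ≫ (A.ι ∣_ W P) ≫ (W P).ι
    have hp : p = pullback.snd (A.ι ⁻¹ᵁ W P).ι (A.ι ⁻¹ᵁ W P').ι ≫ (A.ι ∣_ W P') ≫ (W P').ι := by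
      simp only [p]
      rw [morphismRestrict_ι, morphismRestrict_ι, ← Category.assoc, pullback.condition, Category.assoc]
    have hr : Set.range p ⊆ Set.range B.ι := by
      rintro _ ⟨z, rfl⟩
      rw [Scheme.Opens.range_ι]
      exact ⟨(((pullback.fst (A.ι ⁻¹ᵁ W P).ι (A.ι ⁻¹ᵁ W P').ι ≫ (A.ι ∣_ W P))) z).2, hp ▸
        (((pullback.snd (A.ι ⁻¹ᵁ W P).ι (A.ι ⁻¹ᵁ W P').ι ≫ (A.ι ∣_ W P'))) z).2⟩
    let l := IsOpenImmersion.lift B.ι p hr
    have h1 : pullback.fst _ _ ≫ (A.ι ∣_ W P) = l ≫ Y.homOfLE (inf_le_left : B ≤ W P) := by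
      rw [← cancel_mono (W P).ι, Category.assoc, Category.assoc, Scheme.homOfLE_ι, IsOpenImmersion.lift_fac]
    have h2 : pullback.snd _ _ ≫ (A.ι ∣_ W P') = l ≫ Y.homOfLE (inf_le_right : B ≤ W P') := by
      rw [← cancel_mono (W P').ι, Category.assoc, Category.assoc, Scheme.homOfLE_ι, IsOpenImmersion.lift_fac,
        hp]
    simp only [q]
    rw [reassoc_of% h1, reassoc_of% h2, e]
  refine ⟨A, 𝒰.glueMorphisms q hq, hTA, hAV, ?_⟩
  refine Scheme.Cover.hom_ext ((c ⁻¹ᵁ A).toScheme.openCoverOfIsOpenCover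
    (fun P => (c ∣_ A) ⁻¹ᵁ (A.ι ⁻¹ᵁ W P)) (top_unique fun y _ => by
      obtain ⟨P, hP⟩ := Opens.mem_iSup.1 ((c ∣_ A) y).2
      exact Opens.mem_iSup.2 ⟨P, hP⟩)) _ _ fun P => ?_
  let O := (c ∣_ A) ⁻¹ᵁ (A.ι ⁻¹ᵁ W P)
  show O.ι ≫ (c ∣_ A) ≫ 𝒰.glueMorphisms q hq = O.ι ≫ (c ⁻¹ᵁ A).ι ≫ b
  rw [← morphismRestrict_ι_assoc, show (A.ι ⁻¹ᵁ W P).ι ≫ 𝒰.glueMorphisms q hq = q P from 𝒰.ι_glueMorphisms q hq P]
  have hr : Set.range (O.ι ≫ (c ⁻¹ᵁ A).ι) ⊆ Set.range (c ⁻¹ᵁ W P).ι := by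
    rintro _ ⟨z, rfl⟩
    rw [Scheme.Opens.range_ι]
    have hz : A.ι ((c ∣_ A) z.1) ∈ W P := z.2
    rw [← Scheme.Hom.comp_apply, morphismRestrict_ι] at hz
    exact hz
  let l := IsOpenImmersion.lift (c ⁻¹ᵁ W P).ι _ hr
  have hl : ((c ∣_ A) ∣_ (A.ι ⁻¹ᵁ W P)) ≫ (A.ι ∣_ W P) = l ≫ (c ∣_ W P) := by
    rw [← cancel_mono (W P).ι]
    simp only [Category.assoc, morphismRestrict_ι, morphismRestrict_ι_assoc]
    rw [← reassoc_of% (IsOpenImmersion.lift_fac (c ⁻¹ᵁ W P).ι _ hr)]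
  simp only [q]
  rw [reassoc_of% hl, ha, ← Category.assoc, IsOpenImmersion.lift_fac, Category.assoc]

end Groth.L12.FlatZero
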