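import Groth.Agent.L12.FlatZero.Contract
import Groth.Agent.L20.ThickeningFibre

/-!
# Contractions near a fibre, for an arbitrary choice of the fibres
-/

set_option autoImplicit false
set_option linter.style.haveILetI false
set_option linter.unusedSectionVars false
set_option backward.isDefEq.respectTransparency false
set_option backward.isDefEq.respectTransparency.types false

universe u

open CategoryTheory CategoryTheory.Limits AlgebraicGeometry TopologicalSpace Opposite

noncomputable section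

namespace Groth.L12.FlatZero

/-- The isomorphism criterion for a contraction of families of curves, with a chosen fibre square. -/
theorem exists_contraction_nhd {X Y S : Scheme.{u}} (c : X ⟶ Y) (g : Y ⟶ S)
    [Flat (c ≫ g)] [IsProper (c ≫ g)] [LocallyOfFinitePresentation (c ≫ g)]
    [IsProper g] [LocallyOfFinitePresentation g]
    (s : S) (hX : topologicalKrullDim ↥((c ≫ g).fiber s) ≤ 1) {Xs Ys : Scheme.{u}}
    (iX : Xs ⟶ X) (qX : Xs ⟶ Spec (S.residueField s)) (hXs : IsPullback iX qX (c ≫ g) (S.fromSpecResidueField s))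
    (iY : Ys ⟶ Y) (qY : Ys ⟶ Spec (S.residueField s)) (hYs : IsPullback iY qY g (S.fromSpecResidueField s))
    (d : Xs ⟶ Ys) (hd : d ≫ iY = iX ≫ c) (hdq : d ≫ qY = qX) (hiso : ∀ U : Ys.Opens, IsIso (d.app U))
    (hR1 : ∀ U : Ys.Opens, IsAffineOpen U → Subsingleton (Coh.HHon Xs (Coh.structureModule Xs) (d ⁻¹ᵁ U) 1)) :
    IsProper c ∧ ∃ V : Y.Opens, g ⁻¹' {s} ⊆ (V : Set Y) ∧ ∀ U ≤ V, IsIso (c.app U) := by
  haveI : IsProper c := IsProper.of_comp c g
  refine ⟨inferInstance, ?_⟩
  subst hdq
  have sqd : IsPullback iX d c iY := IsPullback.of_bot hXs hd.symm hYs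
  haveI : IsProper d := MorphismProperty.of_isPullback sqd inferInstance
  let fm := MoreMor.fiberMap c g s
  have sqm := Groth.L20.Thick.isPullback_fiberMap c g s
  let a : g.fiber s ≅ Ys :=
    (IsPullback.of_hasPullback g (S.fromSpecResidueField s)).isoIsPullback _ _ hYs
  have ha : a.hom ≫ iY = g.fiberι s := IsPullback.isoIsPullback_hom_fst _ _ _ _
  let aX := sqd.lift ((c ≫ g).fiberι s) (fm ≫ a.hom) (by rw [Category.assoc, ha]; exact sqm.w)
  have sqa : IsPullback aX fm d a.hom := IsPullback.of_right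
    (show IsPullback (aX ≫ iX) fm c (a.hom ≫ iY) by rw [sqd.lift_fst, ha]; exact sqm)
    (sqd.lift_snd _ _ _) sqd
  haveI : IsIso aX := MorphismProperty.of_isPullback (P := MorphismProperty.isomorphisms Scheme.{u}) sqa.flip
    (inferInstanceAs (IsIso a.hom))
  haveI : IsProper fm := MorphismProperty.of_isPullback sqa inferInstance
  have hfm : fm = aX ≫ d ≫ a.inv := by
    rw [← Category.assoc, sqa.w, Category.assoc, a.hom_inv_id, Category.comp_id]
  have hisom : ∀ T : (g.fiber s).Opens, IsIso (fm.app T) := fun T => by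
    rw [hfm]
    haveI := hiso (a.inv ⁻¹ᵁ T)
    rw [Scheme.Hom.comp_app, Scheme.Hom.comp_app]
    infer_instance
  let eXs : Xs ≅ (c ≫ g).fiber s :=
    hXs.isoIsPullback _ _ (IsPullback.of_hasPullback (c ≫ g) (S.fromSpecResidueField s))
  have hdXs : topologicalKrullDim Xs ≤ 1 :=
    (Topology.IsInducing.topologicalKrullDim_le eXs.hom.isEmbedding.isInducing).trans hX
  have hdd : ∀ z, topologicalKrullDim ↥(d.fiber z) ≤ 1 := fun z =>
    (Topology.IsInducing.topologicalKrullDim_le (d.fiberι z).isEmbedding.isInducing).trans hdXs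
  have h1d : ∀ z, Subsingleton (Coh.HH (d.fiber z) (Coh.structureModule (d.fiber z)) 1) := fun z => by
    obtain ⟨_, ⟨T, hT, rfl⟩, hzT, -⟩ := Ys.isBasis_affineOpens.exists_subset_of_mem_open (Set.mem_univ z) isOpen_univ
    replace hT : IsAffineOpen T := hT
    refine h1_fibre_of_affine d hT (fun z _ => hdd z) ?_ hzT
    exact @Groth.L12.GenusZero.subsingleton_of_iso _ _ _
      (((Scheme.Modules.restrictFunctorIsoPullback (d ⁻¹ᵁ T).ι).app _) ≪≫
        Groth.L29.LocFree.pullbackUnitIso (d ⁻¹ᵁ T).ι) 1 (hR1 T hT)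
  have hdim : ∀ y' : ↥(g.fiber s), topologicalKrullDim ↑(fm.fiber y') ≤ 1 := fun y' =>
    Groth.L12.GenusZero.fiber_dim_le_of_isPullback sqa y' (hdd _)
  obtain ⟨V, hV, -, -, -, -, hi⟩ := exists_iso_nhd c g s (fun x _ => (Flat.iff_flat_stalkMap _).1 inferInstance x) hdim
    (fun T hT => h1_baseChange d (V := ⊤) (fun z _ => hdd z) (fun z _ => h1d z) fm a.hom aX sqa hT le_top) hisom
  exact ⟨V, hV, hi⟩

end Groth.L12.FlatZero
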