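import Groth.Agent.L12.FlatZero.Near
import Groth.Agent.L18.AffineApps

/-!
# The surjectivity and isomorphism criteria near a fibre over the base
-/

set_option autoImplicit false
set_option linter.style.haveILetI false
set_option linter.unusedSectionVars false
set_option backward.isDefEq.respectTransparency false
set_option backward.isDefEq.respectTransparency.types false

universe u

open CategoryTheory CategoryTheory.Limits AlgebraicGeometry TopologicalSpace Opposite
open scoped TensorProduct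

noncomputable section

namespace Groth.L12.FlatZero

open Groth.L17.BC (Sec act fV fV_fromSpec compat_of_isPullback)
open Groth.L17.BC.Classes (isPullback_fV)
open Groth.L12.GenusZero (fiber_dim_fV isProper_fV toGlobal_fV)

theorem isPullback_comp_mono {P X Y S T : Scheme.{u}} {a : P ⟶ X} {b : P ⟶ Y} {f : X ⟶ S} {g : Y ⟶ S}
    (h : IsPullback a b f g) (j : S ⟶ T) [Mono j] : IsPullback a b (f ≫ j) (g ≫ j) := by
  refine ⟨⟨by rw [← Category.assoc, h.w, Category.assoc]⟩, ⟨PullbackCone.IsLimit.mk _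
    (fun c => h.lift c.fst c.snd ((cancel_mono j).1 (by rw [Category.assoc, Category.assoc]; exact c.condition)))
    (fun c => h.lift_fst _ _ _) (fun c => h.lift_snd _ _ _) fun c m h1 h2 => h.hom_ext ?_ ?_⟩⟩
  · rw [h.lift_fst]; exact h1
  · rw [h.lift_snd]; exact h2

/-- On an affine open of the source over an affine of the base, global functions of the restriction to the
fibre inherit bijectivity or surjectivity, and finite kernels and cokernels die near the fibre. -/
theorem exists_basicOpen {X Y S : Scheme.{u}} (f : X ⟶ Y) [IsProper f] (g : Y ⟶ S) (s : S)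
    {V : Y.Opens} (hV : IsAffineOpen V) {W : S.Opens} (hW : IsAffineOpen W) (e : V ≤ g ⁻¹ᵁ W)
    (y : Y) (hyV : y ∈ V) (hy : g y = s) (hflat : Flat ((f ⁻¹ᵁ V).ι ≫ f ≫ g))
    (hd : ∀ z ∈ V, topologicalKrullDim ↥(f.fiber z) ≤ 1)
    (h1 : Subsingleton (Coh.HH (f ⁻¹ᵁ V).toScheme (Coh.structureModule (f ⁻¹ᵁ V).toScheme) 1))
    (hfin : (f.app V).hom.Finite) (hker : Function.Surjective (f.app V) → (RingHom.ker (f.app V).hom).FG)
    (hsurj : ∀ T : (g.fiber s).Opens, IsAffineOpen T → Function.Surjective ((MoreMor.fiberMap f g s).app T)) :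
    ∃ V' : Y.Opens, IsAffineOpen V' ∧ y ∈ V' ∧ V' ≤ V ∧ Function.Surjective (f.app V') ∧
      ((Function.Surjective (f.app V) → ∀ T : (g.fiber s).Opens, IsAffineOpen T →
          Function.Injective ((MoreMor.fiberMap f g s).app T)) →
        Function.Surjective (f.app V) → ∃ V'' : Y.Opens, IsAffineOpen V'' ∧ y ∈ V'' ∧ V'' ≤ V ∧
          Function.Bijective (f.app V'')) := by
  subst hy
  let s := g y
  let fm := MoreMor.fiberMap f g s
  have hmW : s ∈ W := e hyV
  let A := Γ(S, W)
  let B := Γ(Y, V)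
  letI : Algebra A B := (g.appLE W V e).hom.toAlgebra
  let κ := S.residueField s
  let bκ := IsOpenImmersion.lift hW.fromSpec (S.fromSpecResidueField s) (by
    rw [hW.range_fromSpec, Scheme.range_fromSpecResidueField]
    exact Set.singleton_subset_iff.2 hmW)
  have hbκ : bκ ≫ hW.fromSpec = S.fromSpecResidueField s := IsOpenImmersion.lift_fac _ _ _
  letI : Algebra A κ := (Spec.preimage bκ).hom.toAlgebra
  have hκ : Spec.map (CommRingCat.ofHom (algebraMap A κ)) = bκ := Spec.map_preimage bκ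
  let e₁ : Spec (CommRingCat.of ((κ : Type u) ⊗[A] B)) ⟶ Spec B :=
    Spec.map (CommRingCat.ofHom (Algebra.TensorProduct.includeRight (R := A) (A := (κ : Type u)) (B := B)).toRingHom)
  let e₂ : Spec (CommRingCat.of ((κ : Type u) ⊗[A] B)) ⟶ Spec κ :=
    Spec.map (CommRingCat.ofHom (Algebra.TensorProduct.includeLeftRingHom : (κ : Type u) →+* (κ : Type u) ⊗[A] B))
  let AB : Spec B ⟶ Spec A := Spec.map (g.appLE W V e)
  have sqT : IsPullback e₁ e₂ AB (Spec.map (CommRingCat.ofHom (algebraMap A κ))) :=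
    (isPullback_SpecMap_of_isPushout _ _ _ _ (CommRingCat.isPushout_tensorProduct A (κ : Type u) B)).flip
  have sqW : IsPullback e₁ e₂ (hV.fromSpec ≫ g) (S.fromSpecResidueField s) := by
    rw [← hbκ, ← IsAffineOpen.SpecMap_appLE_fromSpec g hW hV e, ← hκ]
    exact isPullback_comp_mono sqT hW.fromSpec
  have sqF : IsPullback (g.fiberι s) (g.fiberToSpecResidueField s) g (S.fromSpecResidueField s) :=
    IsPullback.of_hasPullback _ _
  let oY := sqF.lift (e₁ ≫ hV.fromSpec) e₂ (by rw [Category.assoc]; exact sqW.w)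
  have hoY : oY ≫ g.fiberι s = e₁ ≫ hV.fromSpec := sqF.lift_fst _ _ _
  have sqYs : IsPullback e₁ oY hV.fromSpec (g.fiberι s) :=
    IsPullback.of_bot (by rw [sqF.lift_snd]; exact sqW) hoY.symm sqF
  haveI : IsOpenImmersion oY := MorphismProperty.of_isPullback sqYs inferInstance
  let T := oY.opensRange
  have hT : IsAffineOpen T := isAffineOpen_opensRange oY
  -- a point of the fibre over `y`
  obtain ⟨y₁, hy₁⟩ := (g.range_fiberι s).ge (show y ∈ g ⁻¹' {s} from rfl)
  obtain ⟨v, hv⟩ := hV.range_fromSpec.ge hyV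
  obtain ⟨Q', hQ'₁, -⟩ := Scheme.exists_preimage_of_isPullback sqYs v y₁ (hv.trans hy₁.symm)
  haveI := isProper_fV f hV
  let fVV := fV f hV
  let kX := pullback.fst fVV e₁
  let fs := pullback.snd fVV e₁
  have sqXs : IsPullback kX fs fVV e₁ := IsPullback.of_hasPullback _ _
  have sqV := isPullback_fV f hV
  have sqm := Groth.L20.Thick.isPullback_fiberMap f g s
  let oX := sqm.lift (kX ≫ (f ⁻¹ᵁ V).ι) (fs ≫ oY) (by
    rw [Category.assoc, Category.assoc, hoY]
    exact (sqXs.paste_horiz sqV).w)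
  have sqoX : IsPullback oX fs fm oY := IsPullback.of_right
    (show IsPullback (oX ≫ (f ≫ g).fiberι s) fs f (oY ≫ g.fiberι s) by
      rw [sqm.lift_fst, hoY]; exact sqXs.paste_horiz sqV)
    (sqm.lift_snd _ _ _) sqm
  let i := IsOpenImmersion.isoOfRangeEq oY hT.fromSpec (by rw [hT.range_fromSpec]; rfl)
  have hi : i.hom ≫ hT.fromSpec = oY := IsOpenImmersion.isoOfRangeEq_hom_fac _ _ _
  have sqmT := isPullback_fV fm hT
  let j := sqmT.lift oX (fs ≫ i.hom) (by rw [Category.assoc, hi]; exact sqoX.w)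
  have sqj : IsPullback j fs (fV fm hT) i.hom := IsPullback.of_right
    (show IsPullback (j ≫ (fm ⁻¹ᵁ T).ι) fs fm (i.hom ≫ hT.fromSpec) by rw [sqmT.lift_fst, hi]; exact sqoX)
    (sqmT.lift_snd _ _ _) sqmT
  haveI : IsIso j := MorphismProperty.of_isPullback (P := MorphismProperty.isomorphisms Scheme.{u}) sqj.flip
    (inferInstanceAs (IsIso i.hom))
  have hfs : fs.appTop = inv i.hom.appTop ≫ (fV fm hT).appTop ≫ j.appTop := by
    rw [IsIso.eq_inv_comp, ← Scheme.Hom.comp_appTop, ← Scheme.Hom.comp_appTop, sqj.w]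
  let τ : (κ : Type u) ⊗[A] B →+* Γ(pullback fVV e₁, ⊤) := Coh.toGlobal (A := (κ : Type u) ⊗[A] B) fs
  have hτeq : ∀ z, τ z = j.appTop ((fV fm hT).appTop (inv i.hom.appTop
      ((Scheme.ΓSpecIso (CommRingCat.of ((κ : Type u) ⊗[A] B))).inv z))) := fun z => by
    show fs.appTop _ = _
    rw [hfs]
    rfl
  have hmT : ∀ a : Γ(g.fiber s, T), (fV fm hT).appTop ((Scheme.ΓSpecIso Γ(g.fiber s, T)).inv a) =
      ((f ≫ g).fiber s).presheaf.map (eqToHom (image_top_eq fm T)).op (fm.app T a) := toGlobal_fV fm hT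
  have hbi₁ : Function.Bijective (fun z => inv i.hom.appTop
      ((Scheme.ΓSpecIso (CommRingCat.of ((κ : Type u) ⊗[A] B))).inv z)) :=
    (ConcreteCategory.bijective_of_isIso (inv i.hom.appTop)).comp (ConcreteCategory.bijective_of_isIso _)
  have hbiT := ConcreteCategory.bijective_of_isIso (Scheme.ΓSpecIso Γ(g.fiber s, T)).inv
  have hτs : Function.Surjective τ := fun z => by
    obtain ⟨w, rfl⟩ := (ConcreteCategory.bijective_of_isIso j.appTop).2 z
    obtain ⟨w', hw'⟩ := (bijective_res (image_top_eq fm T)).2 w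
    obtain ⟨a, rfl⟩ := hsurj T hT w'
    obtain ⟨z', hz'⟩ := hbi₁.2 ((Scheme.ΓSpecIso Γ(g.fiber s, T)).inv a)
    exact ⟨z', by rw [hτeq, show inv i.hom.appTop _ = _ from hz', hmT, hw']⟩
  have hτi : Function.Injective (fm.app T) → Function.Injective τ := fun hinj z z' h => by
    rw [hτeq, hτeq] at h
    have h' := (ConcreteCategory.bijective_of_isIso j.appTop).1 h
    refine hbi₁.1 ?_
    obtain ⟨a, ha⟩ := hbiT.2 (inv i.hom.appTop ((Scheme.ΓSpecIso (CommRingCat.of ((κ : Type u) ⊗[A] B))).inv z))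
    obtain ⟨a', ha'⟩ := hbiT.2 (inv i.hom.appTop ((Scheme.ΓSpecIso (CommRingCat.of ((κ : Type u) ⊗[A] B))).inv z'))
    rw [← ha, ← ha', hmT, hmT] at h'
    have := hinj ((bijective_res (image_top_eq fm T)).1 h')
    show inv i.hom.appTop _ = inv i.hom.appTop _
    rw [← ha, ← ha', this]
  -- base change of the global functions
  haveI : Flat (fVV ≫ AB) := by
    haveI : Flat ((fVV ≫ AB) ≫ hW.fromSpec) := by
      rw [Category.assoc, IsAffineOpen.SpecMap_appLE_fromSpec g hW hV e, ← Category.assoc, fV_fromSpec,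
        Category.assoc]
      exact hflat
    exact Groth.L21.Nodal.flat_of_comp_etale _ hW.fromSpec
  have sqA : IsPullback kX (fs ≫ e₂) (fVV ≫ AB) (Spec.map (CommRingCat.ofHom (algebraMap A κ))) :=
    sqXs.paste_vert sqT
  have hvan := vanishing fVV (fiber_dim_fV f hV hd) h1
  have hbc := isBaseChange_global (A := A) (fVV ≫ AB) hvan (B := (κ : Type u)) (fs ≫ e₂) kX sqA
  have hflatR := flat_global (A := A) (fVV ≫ AB) hvan
  let X₁ := (f ⁻¹ᵁ V).toScheme
  let ψ : B →+* Γ(X₁, ⊤) := Coh.toGlobal (A := B) fVV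
  letI : Algebra B Γ(X₁, ⊤) := ψ.toAlgebra
  letI : Algebra A Γ(X₁, ⊤) := (ψ.comp (algebraMap A B)).toAlgebra
  haveI : IsScalarTower A B Γ(X₁, ⊤) := IsScalarTower.of_algebraMap_eq fun _ => rfl
  let eS : Γ(X₁, ⊤) ≃ₗ[A] Sec (Coh.toGlobal (A := A) (fVV ≫ AB)) (Coh.structureModule X₁) ⊤ :=
    { (AddEquiv.refl Γ(X₁, ⊤)) with
      map_smul' := fun a r => by
        show ψ (algebraMap A B a) * (show Γ(X₁, ⊤) from r) =
          act (Coh.toGlobal (A := A) (fVV ≫ AB)) ⊤ a * (show Γ(X₁, ⊤) from r)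
        refine congrArg (· * (show Γ(X₁, ⊤) from r)) ?_
        refine Eq.trans ?_ (Groth.L18.Frame.ro_self le_rfl _).symm
        exact (toGlobal_comp fVV (g.appLE W V e) a).symm }
  haveI : Module.Flat A Γ(X₁, ⊤) := haveI := hflatR; Module.Flat.of_linearEquiv eS
  let ψA : B →ₗ[A] Γ(X₁, ⊤) := (Algebra.linearMap B Γ(X₁, ⊤)).restrictScalars A
  let E : (κ : Type u) ⊗[A] Γ(X₁, ⊤) → Γ(pullback fVV e₁, ⊤) := fun t => hbc.equiv (eS.toLinearMap.lTensor (κ : Type u) t)
  have hEadd : ∀ t t', E (t + t') = E t + E t' := fun t t' => by simp only [E, map_add]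
  have hEb : Function.Bijective E :=
    hbc.equiv.bijective.comp (TensorProduct.congr (LinearEquiv.refl A (κ : Type u)) eS).bijective
  have hkey : ∀ t, E (ψA.lTensor (κ : Type u) t) = τ t := fun t => by
    induction t using TensorProduct.induction_on with
    | zero => rw [map_zero, map_zero]; exact (congrArg hbc.equiv (map_zero _)).trans (map_zero _)
    | add a b ha hb => rw [map_add, hEadd, ha, hb, map_add]
    | tmul c b =>
      show hbc.equiv (c ⊗ₜ[A] eS (ψ b)) = _
      rw [IsBaseChange.equiv_tmul]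
      show act (Coh.toGlobal (A := (κ : Type u)) (fs ≫ e₂)) ⊤ c *
        Groth.L18.Frame.ro (le_rfl : (⊤ : (pullback fVV e₁).Opens) ≤ kX ⁻¹ᵁ ⊤) (kX.app ⊤ (ψ b)) = τ (c ⊗ₜ[A] b)
      rw [show τ (c ⊗ₜ[A] b) = τ (c ⊗ₜ[A] (1 : B)) * τ ((1 : (κ : Type u)) ⊗ₜ[A] b) by
        rw [← map_mul, Algebra.TensorProduct.tmul_mul_tmul, mul_one, one_mul]]
      refine congrArg₂ (· * ·) ?_ ?_
      · exact (Groth.L18.Frame.ro_self le_rfl _).trans (toGlobal_comp fs _ c)
      · refine (Groth.L18.Frame.ro_self le_rfl _).trans ?_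
        letI : Algebra B ((κ : Type u) ⊗[A] B) :=
          (Algebra.TensorProduct.includeRight (R := A) (A := (κ : Type u)) (B := B)).toRingHom.toAlgebra
        exact compat_of_isPullback (A := B) (B := (κ : Type u) ⊗[A] B) fVV fs kX sqXs b
  have hψT : Function.Surjective (ψA.lTensor (κ : Type u)) := fun t => by
    obtain ⟨u, hu⟩ := hτs (E t)
    exact ⟨u, hEb.1 ((hkey u).trans hu)⟩
  have hres : ∀ a, ψ a = X.presheaf.map (eqToHom (image_top_eq f V)).op (f.app V a) := toGlobal_fV f hV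
  let η : Γ(X, f ⁻¹ᵁ V) ≃+* Γ(X₁, ⊤) :=
    RingEquiv.ofBijective (X.presheaf.map (eqToHom (image_top_eq f V)).op).hom (bijective_res _)
  have hη : ψ = η.toRingHom.comp (f.app V).hom := RingHom.ext hres
  haveI : Module.Finite B Γ(X₁, ⊤) := by
    have : ψ.Finite := hη ▸ RingHom.Finite.comp (RingHom.Finite.of_surjective _ η.surjective) hfin
    exact this
  -- a point of the tensor product over `y`
  let res : (κ : Type u) ⊗[A] B →+* (Q'.asIdeal).ResidueField := algebraMap _ _
  have hloc : ∀ h : B, res ((1 : (κ : Type u)) ⊗ₜ[A] h) ≠ 0 → y ∈ Y.basicOpen h := fun h hh => by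
    have hvh : v ∈ PrimeSpectrum.basicOpen h := by
      rw [← hQ'₁]
      exact fun hm => hh (Ideal.algebraMap_residueField_eq_zero.2 hm)
    rw [← hV.fromSpec_image_basicOpen h, ← hv]
    exact ⟨v, hvh, rfl⟩
  have hqc : IsCompact ((f ⁻¹ᵁ V : X.Opens) : Set X) := f.isCompact_preimage hV.isCompact
  have hqs : IsQuasiSeparated ((f ⁻¹ᵁ V : X.Opens) : Set X) := by
    haveI : IsAffine V.toScheme := hV
    haveI : QuasiSeparatedSpace (f ⁻¹ᵁ V).toScheme := quasiSeparatedSpace_of_quasiSeparated (f ∣_ V)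
    exact (isQuasiSeparated_iff_quasiSeparatedSpace _ (f ⁻¹ᵁ V).2).2 ‹QuasiSeparatedSpace (f ⁻¹ᵁ V).toScheme›
  have localise : ∀ h : B,
      ((∀ r, ∃ b, f.app V b = f.app V h * r) → Function.Surjective (f.app (Y.basicOpen h))) ∧
      ((∀ b, f.app V b = 0 → h * b = 0) → Function.Injective (f.app (Y.basicOpen h))) := fun h => by
    letI := (Y.presheaf.map (homOfLE (Y.basicOpen_le h)).op).hom.toAlgebra
    letI := (X.presheaf.map (homOfLE (X.basicOpen_le (f.app V h))).op).hom.toAlgebra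
    haveI := hV.isLocalization_basicOpen h
    haveI : IsLocalization.Away (f.app V h) Γ(X, X.basicOpen (f.app V h)) :=
      isLocalization_basicOpen_of_qcqs hqc hqs (f.app V h)
    have hpre := Scheme.preimage_basicOpen f h
    let θ : Γ(Y, Y.basicOpen h) →+* Γ(X, X.basicOpen (f.app V h)) :=
      ((X.presheaf.map (eqToHom hpre.symm).op).hom).comp (f.app (Y.basicOpen h)).hom
    have hθ : ∀ b : B, θ (algebraMap B _ b) = algebraMap Γ(X, f ⁻¹ᵁ V) _ (f.app V b) := fun b => by
      show (f.app (Y.basicOpen h) ≫ X.presheaf.map (eqToHom hpre.symm).op)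
        (Y.presheaf.map (homOfLE (Y.basicOpen_le h)).op b) =
        X.presheaf.map (homOfLE (X.basicOpen_le (f.app V h))).op (f.app V b)
      rw [← ConcreteCategory.comp_apply, ← Category.assoc, f.naturality, Category.assoc, ← Functor.map_comp]
      rfl
    have hres' := bijective_res (X := X) hpre.symm
    constructor
    · intro hh
      suffices Function.Surjective θ from fun z => by
        obtain ⟨a, ha⟩ := this (X.presheaf.map (eqToHom hpre.symm).op z)
        exact ⟨a, hres'.1 ha⟩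
      intro z
      obtain ⟨n, r, hr⟩ := IsLocalization.Away.surj (f.app V h) z
      obtain ⟨b, hb⟩ := hh r
      have hu : IsUnit (algebraMap B Γ(Y, Y.basicOpen h) h) := IsLocalization.Away.algebraMap_isUnit h
      obtain ⟨w, hw⟩ := hu.exists_right_inv
      refine ⟨w ^ (n + 1) * algebraMap B _ b, ?_⟩
      rw [map_mul, map_pow, hθ, hb, map_mul, ← hr, ← hθ]
      calc θ w ^ (n + 1) * (θ (algebraMap B _ h) * (z * θ (algebraMap B _ h) ^ n))
          = z * (θ w * θ (algebraMap B _ h)) ^ (n + 1) := by ring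
        _ = z := by rw [← map_mul, mul_comm w, hw, map_one, one_pow, mul_one]
    · intro hh
      suffices Function.Injective θ from fun a b hab =>
        this (congrArg (fun v => X.presheaf.map (eqToHom hpre.symm).op v) hab)
      rw [injective_iff_map_eq_zero]
      intro x hx
      obtain ⟨n, b, hb⟩ := IsLocalization.Away.surj h x
      have h0 : algebraMap Γ(X, f ⁻¹ᵁ V) Γ(X, X.basicOpen (f.app V h)) (f.app V b) = 0 := by
        rw [← hθ, ← hb, map_mul, hx, zero_mul]
      obtain ⟨⟨_, m, rfl⟩, hm⟩ := (IsLocalization.map_eq_zero_iff (Submonoid.powers (f.app V h)) _ _).1 h0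
      have hbm : h * (h ^ m * b) = 0 := hh _ (by rw [map_mul, map_pow]; exact hm)
      have hb0 : algebraMap B Γ(Y, Y.basicOpen h) b = 0 :=
        (IsLocalization.map_eq_zero_iff (Submonoid.powers h) _ _).2
          ⟨⟨h ^ (m + 1), ⟨m + 1, rfl⟩⟩, by show h ^ (m + 1) * b = 0; rw [pow_succ', mul_assoc]; exact hbm⟩
      rw [hb0] at hb
      exact ((IsLocalization.Away.algebraMap_isUnit h).pow n).mul_left_eq_zero.1 hb
  -- the cokernel
  let M := LinearMap.range (Algebra.linearMap B Γ(X₁, ⊤))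
  have hC : Subsingleton ((κ : Type u) ⊗[A] (Γ(X₁, ⊤) ⧸ M)) := by
    let q : Γ(X₁, ⊤) →ₗ[A] Γ(X₁, ⊤) ⧸ M := M.mkQ.restrictScalars A
    refine subsingleton_of_forall_eq 0 fun t => ?_
    obtain ⟨w, rfl⟩ := LinearMap.lTensor_surjective (κ : Type u) (g := q) (Submodule.mkQ_surjective M) t
    obtain ⟨u, rfl⟩ := hψT w
    rw [← LinearMap.comp_apply, ← LinearMap.lTensor_comp, show q ∘ₗ ψA = 0 from
      LinearMap.ext fun b => (Submodule.Quotient.mk_eq_zero M).2 ⟨b, rfl⟩, LinearMap.lTensor_zero]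
    rfl
  obtain ⟨h, hh, hkill⟩ := exists_smul_of_res (B := B) (Γ(X₁, ⊤) ⧸ M) hC res
  refine ⟨Y.basicOpen h, hV.basicOpen h, hloc h hh, Y.basicOpen_le h, (localise h).1 fun r => ?_, fun hinj hs => ?_⟩
  · have := hkill (Submodule.Quotient.mk (η r))
    rw [← Submodule.Quotient.mk_smul, Submodule.Quotient.mk_eq_zero] at this
    obtain ⟨b, hb⟩ := this
    refine ⟨b, η.injective ?_⟩
    rw [map_mul]
    refine ((hres b).symm.trans hb).trans ?_
    rw [Algebra.smul_def]
    exact congrArg (· * η r) (hres h)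
  have hψs : Function.Surjective ψ := by
    rw [hη, RingHom.coe_comp]
    exact η.surjective.comp hs
  let K : Submodule B B := RingHom.ker ψ
  haveI : Module.Finite B K := Module.Finite.iff_fg.2 (by
    have := hker hs
    show (RingHom.ker ψ).FG
    rw [hη, RingHom.ker_equiv_comp]
    exact this)
  have hK : Subsingleton ((κ : Type u) ⊗[A] K) := by
    let inc : K →ₗ[A] B := K.subtype.restrictScalars A
    have hex : Function.Exact inc ψA := fun b =>
      ⟨fun hb => ⟨⟨b, hb⟩, rfl⟩, by rintro ⟨k, rfl⟩; exact k.2⟩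
    have hi : Function.Injective (inc.lTensor (κ : Type u)) :=
      (LinearMap.lTensor_inj_iff_rTensor_inj (κ : Type u) inc).2
        (Groth.L01.FlatCx.rTensor_injective_of_flat_quot (g := ψA) Subtype.val_injective hψs hex (κ : Type u))
    refine subsingleton_of_forall_eq 0 fun t => hi (hτi (hinj hs T hT) ?_)
    rw [← hkey, ← hkey, ← LinearMap.comp_apply, ← LinearMap.lTensor_comp, hex.linearMap_comp_eq_zero,
      LinearMap.lTensor_zero, map_zero, map_zero]
    rfl
  obtain ⟨h', hh', hkill'⟩ := exists_smul_of_res (B := B) K hK res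
  refine ⟨Y.basicOpen h', hV.basicOpen h', hloc h' hh', Y.basicOpen_le h',
    (localise h').2 fun b hb => ?_, (localise h').1 fun r => hs _⟩
  have hbK : b ∈ K := by
    show ψ b = 0
    rw [hres, hb, map_zero]
  exact congrArg Subtype.val (hkill' ⟨b, hbK⟩)

end Groth.L12.FlatZero
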