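import Groth.Agent.L12.FlatZero.Cech
import Groth.Agent.L17.Approx.Model
import Groth.Agent.L29.BC.FlatModel
import Groth.Agent.L21.Nodal.SmoothOne

/-!
# Noetherian models of proper schemes over affine space, flat over the base
-/

set_option autoImplicit false
set_option linter.style.haveILetI false
set_option linter.unusedSectionVars false
set_option backward.isDefEq.respectTransparency false
set_option backward.isDefEq.respectTransparency.types false

universe u

open CategoryTheory CategoryTheory.Limits AlgebraicGeometry TopologicalSpace Opposite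
open scoped TensorProduct

noncomputable section

namespace Groth.L12.FlatZero

open Groth.L17.BC (Sec act flat_sec)
open Groth.L21.Nodal (affProj isPullback_affProj)

variable {A : Type u} [CommRing A]

/-- Flatness of a base change of a finitely presented separated scheme holds at a finite stage. -/
theorem exists_flat_stage (A₁ : Subalgebra ℤ A) (hA₁ : A₁.FG) {X X₁ : Scheme.{u}}
    (q₁ : X₁ ⟶ Spec (CommRingCat.of ↥A₁)) [IsSeparated q₁] [QuasiCompact q₁] [LocallyOfFinitePresentation q₁]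
    (q : X ⟶ Spec (CommRingCat.of A)) (g₁ : X ⟶ X₁)
    (sq : IsPullback g₁ q q₁ (Spec.map (CommRingCat.ofHom (algebraMap (↥A₁) A)))) [Flat q] :
    ∃ A₂ : Subalgebra ℤ A, A₂.FG ∧ ∃ hle : A₁ ≤ A₂, ∀ (X₂ : Scheme.{u})
      (q₂ : X₂ ⟶ Spec (CommRingCat.of ↥A₂)) (h : X₂ ⟶ X₁),
      IsPullback h q₂ q₁ (Spec.map (CommRingCat.ofHom (Subalgebra.inclusion hle).toRingHom)) → Flat q₂ := by
  classical
  haveI : CompactSpace X₁ := QuasiCompact.compactSpace_of_compactSpace q₁
  haveI : X₁.IsSeparated := ⟨by rw [← terminal.comp_from q₁]; infer_instance⟩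
  haveI : Coh.IsQCoh (Coh.structureModule X) := Groth.L16.EtaleFibre.isQCoh_structure
  haveI := Groth.L17.BC.isAffineHom_of_isPullback q₁ q g₁ sq
  obtain ⟨d, W, hcov, haff⟩ := Groth.L17.BC.exists_affine_cover (X := X₁)
  have hW : ∀ k, IsAffineOpen (W k) := fun k => by simpa using haff 0 fun _ => k
  let ρ₁ := Coh.toGlobal q₁
  have key : ∀ k, ∃ S : Finset A, ∀ (A₂ : Subalgebra ℤ A) (hle : A₁ ≤ A₂), (S : Set A) ⊆ A₂ →
      letI := (Subalgebra.inclusion hle).toRingHom.toAlgebra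
      Module.Flat A₂ (A₂ ⊗[A₁] Sec ρ₁ (Coh.structureModule X₁) (W k)) := by
    intro k
    letI : Algebra A₁ Γ(X₁, W k) := (act ρ₁ (W k)).toAlgebra
    letI : Module Γ(X₁, W k) (Sec ρ₁ (Coh.structureModule X₁) (W k)) := inferInstanceAs (Module Γ(X₁, W k) Γ(X₁, W k))
    haveI : IsScalarTower A₁ Γ(X₁, W k) (Sec ρ₁ (Coh.structureModule X₁) (W k)) :=
      IsScalarTower.of_algebraMap_smul fun _ _ => rfl
    haveI : Algebra.FinitePresentation A₁ Γ(X₁, W k) := by
      have h := q₁.finitePresentation_appLE (isAffineOpen_top _) (hW k) le_top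
      have h2 : (act ρ₁ (W k)).FinitePresentation := by
        have e : act ρ₁ (W k) =
            (q₁.appLE ⊤ (W k) le_top).hom.comp (Scheme.ΓSpecIso (CommRingCat.of ↥A₁)).inv.hom :=
          RingHom.ext fun a => rfl
        rw [e]
        exact RingHom.FinitePresentation.comp h (RingHom.FinitePresentation.of_bijective
          (ConcreteCategory.bijective_of_isIso (Scheme.ΓSpecIso (CommRingCat.of ↥A₁)).inv))
      exact h2
    haveI : Module.FinitePresentation Γ(X₁, W k) (Sec ρ₁ (Coh.structureModule X₁) (W k)) :=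
      inferInstanceAs (Module.FinitePresentation Γ(X₁, W k) Γ(X₁, W k))
    haveI : Module.Flat A (A ⊗[A₁] Sec ρ₁ (Coh.structureModule X₁) (W k)) := by
      have hbc := isBaseChange_pullO q₁ q g₁ sq (hW k) (W := g₁ ⁻¹ᵁ W k) rfl
      haveI := flat_sec q _ (Groth.L16.EtaleFibre.isFlatOver_structure q) ((hW k).preimage g₁)
      exact Module.Flat.of_linearEquiv hbc.equiv
    exact Groth.L17.Approx.exists_flat_coeffs A₁ (B := Γ(X₁, W k))
  choose S hS using key
  let A₂ : Subalgebra ℤ A := A₁ ⊔ Algebra.adjoin ℤ ((Finset.univ.biUnion S : Finset A) : Set A)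
  refine ⟨A₂, hA₁.sup ⟨_, rfl⟩, le_sup_left, fun X₂ q₂ h sqh => ?_⟩
  have hSA : ∀ k, (S k : Set A) ⊆ A₂ := fun k x hx =>
    (le_sup_right : Algebra.adjoin ℤ _ ≤ A₂) (Algebra.subset_adjoin
      (Finset.mem_biUnion.2 ⟨k, Finset.mem_univ k, hx⟩))
  haveI : IsAffineHom h := MorphismProperty.of_isPullback (P := @IsAffineHom) sqh.flip inferInstance
  haveI : Coh.IsQCoh (Coh.structureModule X₂) := Groth.L16.EtaleFibre.isQCoh_structure
  letI := (Subalgebra.inclusion (le_sup_left : A₁ ≤ A₂)).toRingHom.toAlgebra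
  refine Groth.L29.BC.flat_of_isFlatOver q₂ (Groth.L17.Approx.isFlatOver_of_flat_sec q₂ _ (fun k => h ⁻¹ᵁ W k)
    (fun k => (hW k).preimage h) (fun x => ?_) fun k => ?_)
  · obtain ⟨k, hk⟩ := Opens.mem_iSup.1 (hcov.ge (Opens.mem_top (h x)))
    exact ⟨k, hk⟩
  · have hbc := isBaseChange_pullO q₁ q₂ h sqh (hW k) (W := h ⁻¹ᵁ W k) rfl
    haveI := hS k A₂ le_sup_left (hSA k)
    exact Module.Flat.of_linearEquiv hbc.equiv.symm

/-- A scheme proper of finite presentation over affine space, flat over the base, has a model of the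
same kind over a Noetherian subring. -/
theorem exists_model_affineSpace (n : ℕ) {X : Scheme.{u}}
    (f : X ⟶ Spec (CommRingCat.of (MvPolynomial (Fin n) A))) [IsProper f] [LocallyOfFinitePresentation f]
    [Flat (f ≫ affProj n A)] :
    ∃ A₀ : Subalgebra ℤ A, IsNoetherianRing A₀ ∧
      ∃ (X₀ : Scheme.{u}) (f₀ : X₀ ⟶ Spec (CommRingCat.of (MvPolynomial (Fin n) ↥A₀))) (g : X ⟶ X₀),
        IsProper f₀ ∧ LocallyOfFinitePresentation f₀ ∧ Flat (f₀ ≫ affProj n ↥A₀) ∧
          IsPullback g f f₀ (Spec.map (CommRingCat.ofHom (MvPolynomial.map (algebraMap (↥A₀) A)))) := by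
  classical
  obtain ⟨B₀, hB₀, X₀, f₀, g, hf₀, hlfp, sq⟩ := Groth.L17.Approx.exists_proper_model f
  haveI := hf₀; haveI := hlfp
  obtain ⟨T, hT⟩ := hB₀
  let S : Finset A := T.biUnion fun p => p.support.image fun m => p.coeff m
  let A₁ : Subalgebra ℤ A := Algebra.adjoin ℤ (S : Set A)
  let ι₁ : MvPolynomial (Fin n) ↥A₁ →ₐ[ℤ] MvPolynomial (Fin n) A :=
    MvPolynomial.mapAlgHom A₁.val
  have hι : Function.Injective ι₁ := MvPolynomial.map_injective _ Subtype.val_injective
  have hle : B₀ ≤ ι₁.range := by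
    rw [← hT, Algebra.adjoin_le_iff]
    intro p hp
    have : p ∈ Set.range (MvPolynomial.map (σ := Fin n) (A₁.val : ↥A₁ →ₐ[ℤ] A).toRingHom) := by
      rw [MvPolynomial.mem_range_map_iff_coeffs_subset]
      intro c hc
      obtain ⟨m, hm, rfl⟩ := MvPolynomial.mem_coeffs_iff.mp hc
      exact ⟨⟨_, Algebra.subset_adjoin (Finset.mem_biUnion.mpr ⟨p, hp, Finset.mem_image.mpr ⟨m, hm, rfl⟩⟩)⟩, rfl⟩
    obtain ⟨z, hz⟩ := this
    exact ⟨z, hz⟩
  let χ : ↥B₀ →ₐ[ℤ] MvPolynomial (Fin n) ↥A₁ :=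
    (AlgEquiv.ofInjective ι₁ hι).symm.toAlgHom.comp (Subalgebra.inclusion hle)
  have hχ : ∀ b : ↥B₀, ι₁ (χ b) = b.1 := fun b =>
    congrArg Subtype.val ((AlgEquiv.ofInjective ι₁ hι).apply_symm_apply (Subalgebra.inclusion hle b))
  let φ₁ := algebraMap (↥A₁) A
  let m₁ := Spec.map (CommRingCat.ofHom (MvPolynomial.map (σ := Fin n) φ₁))
  let c := Spec.map (CommRingCat.ofHom χ.toRingHom)
  have hmc : m₁ ≫ c = Spec.map (CommRingCat.ofHom (algebraMap (↥B₀) (MvPolynomial (Fin n) A))) := by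
    rw [← Spec.map_comp]
    congr 1
    exact CommRingCat.hom_ext (RingHom.ext hχ)
  let f₁ := pullback.snd f₀ c
  let g₁ : X ⟶ pullback f₀ c := pullback.lift g (f ≫ m₁) (by rw [Category.assoc, hmc]; exact sq.w)
  haveI : IsProper f₁ := MorphismProperty.pullback_snd _ _ hf₀
  haveI : LocallyOfFinitePresentation f₁ := MorphismProperty.pullback_snd _ _ hlfp
  have sq₁ : IsPullback g₁ f f₁ m₁ := IsPullback.of_right
    (show IsPullback (g₁ ≫ pullback.fst f₀ c) f f₀ (m₁ ≫ c) by rw [pullback.lift_fst, hmc]; exact sq)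
    (pullback.lift_snd _ _ _) (IsPullback.of_hasPullback f₀ c)
  haveI : LocallyOfFinitePresentation (affProj n ↥A₁) :=
    (HasRingHomProperty.Spec_iff (P := @LocallyOfFinitePresentation)).2
      (RingHom.finitePresentation_algebraMap.2 (inferInstance))
  have hA₁ : A₁.FG := ⟨S, rfl⟩
  have sqP := sq₁.paste_vert (isPullback_affProj n φ₁)
  obtain ⟨A₂, hA₂, hle₂, hflat⟩ := exists_flat_stage A₁ hA₁ (f₁ ≫ affProj n ↥A₁) (f ≫ affProj n A) g₁ sqP
  haveI : Algebra.FiniteType ℤ A₂ := A₂.fg_iff_finiteType.mp hA₂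
  let i₂ := (Subalgebra.inclusion hle₂).toRingHom
  let c₂ := Spec.map (CommRingCat.ofHom (MvPolynomial.map (σ := Fin n) i₂))
  let f₂ := pullback.snd f₁ c₂
  haveI : IsProper f₂ := MorphismProperty.pullback_snd _ _ inferInstance
  haveI : LocallyOfFinitePresentation f₂ := MorphismProperty.pullback_snd _ _ inferInstance
  haveI : Flat (f₂ ≫ affProj n ↥A₂) := hflat _ _ (pullback.fst f₁ c₂)
    ((IsPullback.of_hasPullback f₁ c₂).paste_vert (isPullback_affProj n i₂))
  let m₂ := Spec.map (CommRingCat.ofHom (MvPolynomial.map (σ := Fin n) (algebraMap (↥A₂) A)))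
  have hm : m₂ ≫ c₂ = m₁ := by
    rw [← Spec.map_comp]
    congr 1
    exact CommRingCat.hom_ext (RingHom.ext fun p => MvPolynomial.map_map _ _ p)
  let g₂ : X ⟶ pullback f₁ c₂ := pullback.lift g₁ (f ≫ m₂) (by rw [Category.assoc, hm]; exact sq₁.w)
  refine ⟨A₂, Algebra.FiniteType.isNoetherianRing ℤ A₂, _, f₂, g₂, ‹_›, ‹_›, ‹_›, IsPullback.of_right
    (show IsPullback (g₂ ≫ pullback.fst f₁ c₂) f f₁ (m₂ ≫ c₂) by rw [pullback.lift_fst, hm]; exact sq₁)
    (pullback.lift_snd _ _ _) (IsPullback.of_hasPullback f₁ c₂)⟩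

end Groth.L12.FlatZero
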