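import Groth.Agent.L12.FlatZero.Core
import Groth.Agent.L20.ThickeningFibre
import Groth.Agent.L23.SchemeFacts
import Groth.Agent.L17.AffineVanishing

/-!
# A proper morphism near a fibre over the base with one-dimensional fibres and no `H¹`
-/

set_option autoImplicit false
set_option linter.style.haveILetI false
set_option linter.unusedSectionVars false
set_option backward.isDefEq.respectTransparency false
set_option backward.isDefEq.respectTransparency.types false

universe u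

open CategoryTheory CategoryTheory.Limits AlgebraicGeometry TopologicalSpace Opposite
open scoped TensorProduct

noncomputable section

namespace Groth.L12.FlatZero

open Groth.L17.BC (Sec act fV fV_fromSpec compat_of_isPullback)
open Groth.L17.BC.Classes (isPullback_fV)
open Groth.L21.Nodal (affProj)
open Groth.L12.GenusZero (exists_good_nhd fiber_dim_le_of_isPullback fiber_dim_fV isProper_fV toGlobal_fV)

theorem subsingleton_h1_fiber_ascend {X Y X₀ Y₀ : Scheme.{u}} {g : X ⟶ X₀} {f : X ⟶ Y} {f₀ : X₀ ⟶ Y₀}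
    {b : Y ⟶ Y₀} [IsSeparated f₀] [QuasiCompact f₀] (sq : IsPullback g f f₀ b) (y : Y)
    (h : Subsingleton (Coh.HH (f₀.fiber (b y)) (Coh.structureModule (f₀.fiber (b y))) 1)) :
    Subsingleton (Coh.HH (f.fiber y) (Coh.structureModule (f.fiber y)) 1) := by
  let K := Y.residueField y
  let K₀ := Y₀.residueField (b y)
  letI : Algebra K₀ K := (b.residueFieldMap y).hom.toAlgebra
  let f₁ := f₀.fiberToSpecResidueField (b y)
  haveI : IsSeparated f₁ := MorphismProperty.pullback_snd _ _ inferInstance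
  haveI : QuasiCompact f₁ := MorphismProperty.pullback_snd _ _ inferInstance
  have hb : Spec.map (b.residueFieldMap y) ≫ Y₀.fromSpecResidueField (b y) = Y.fromSpecResidueField y ≫ b :=
    Scheme.Hom.SpecMap_residueFieldMap_fromSpecResidueField b y
  have sq₀ : IsPullback (f₀.fiberι (b y)) f₁ f₀ (Y₀.fromSpecResidueField (b y)) := IsPullback.of_hasPullback _ _
  have sqF : IsPullback (f.fiberι y) (f.fiberToSpecResidueField y) f (Y.fromSpecResidueField y) :=
    IsPullback.of_hasPullback _ _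
  let j := sq₀.lift (f.fiberι y ≫ g) (f.fiberToSpecResidueField y ≫ Spec.map (b.residueFieldMap y)) (by
    rw [Category.assoc, Category.assoc, hb, sq.w, f.fiber_fac_assoc])
  have sq₁ : IsPullback j (f.fiberToSpecResidueField y) f₁ (Spec.map (CommRingCat.ofHom (algebraMap K₀ K))) := by
    refine IsPullback.of_right (h₁₂ := f₀.fiberι (b y)) ?_ (sq₀.lift_snd _ _ _) sq₀
    rw [sq₀.lift_fst]
    exact hb.symm ▸ (sqF.paste_horiz sq)
  letI : Module K₀ (Coh.HH (f₀.fiber (b y)) (Coh.structureModule (f₀.fiber (b y))) 1) :=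
    Module.compHom _ (Coh.toGlobal (A := K₀) f₁)
  haveI : Coh.IsQCoh (Coh.structureModule (f₀.fiber (b y))) := (Groth.L12.GenusZero.isCoh_structure_any _).1
  obtain ⟨e⟩ := Groth.L16.Rees.exists_flat_bc_equiv (A := K₀) (B := K) f₁ (f.fiberToSpecResidueField y) j sq₁
    (Coh.structureModule (f₀.fiber (b y))) 1
  haveI := h
  haveI : Subsingleton ((K : Type u) ⊗[K₀] Coh.HH (f₀.fiber (b y)) (Coh.structureModule (f₀.fiber (b y))) 1) :=
    subsingleton_of_forall_eq 0 fun t => by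
      induction t using TensorProduct.induction_on with
      | zero => rfl
      | add a b ha hb => rw [ha, hb, add_zero]
      | tmul a x => rw [Subsingleton.elim x 0, TensorProduct.tmul_zero]
  haveI : Subsingleton (Coh.HH (f.fiber y) ((Scheme.Modules.pullback j).obj
      (Coh.structureModule (f₀.fiber (b y)))) 1) := e.symm.toEquiv.subsingleton
  exact Groth.L12.GenusZero.subsingleton_of_iso (Groth.L29.LocFree.pullbackUnitIso j) 1

section Hyp

variable {X Y S : Scheme.{u}} (f : X ⟶ Y) [IsProper f] (g : Y ⟶ S) (s : S)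
  (hdim : ∀ y' : ↥(g.fiber s), topologicalKrullDim ↑((MoreMor.fiberMap f g s).fiber y') ≤ 1)
  (hR1 : ∀ U : (g.fiber s).Opens, IsAffineOpen U → Subsingleton (Coh.HHon ((f ≫ g).fiber s)
    (Coh.structureModule ((f ≫ g).fiber s)) (MoreMor.fiberMap f g s ⁻¹ᵁ U) 1))

include hdim in
theorem dim_of_fibre {y : Y} (hy : g y = s) : topologicalKrullDim ↥(f.fiber y) ≤ 1 := by
  obtain ⟨y', rfl⟩ := (g.range_fiberι s).ge (show y ∈ g ⁻¹' {s} from hy)
  exact fiber_dim_descend (Groth.L20.Thick.isPullback_fiberMap f g s) y' (hdim y')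

include hdim hR1 in
theorem h1_of_fibre {y : Y} (hy : g y = s) :
    Subsingleton (Coh.HH (f.fiber y) (Coh.structureModule (f.fiber y)) 1) := by
  obtain ⟨y', rfl⟩ := (g.range_fiberι s).ge (show y ∈ g ⁻¹' {s} from hy)
  refine subsingleton_h1_fiber_descend (Groth.L20.Thick.isPullback_fiberMap f g s) y' ?_
  haveI : IsProper (MoreMor.fiberMap f g s) :=
    MorphismProperty.of_isPullback (Groth.L20.Thick.isPullback_fiberMap f g s) inferInstance
  let fm := MoreMor.fiberMap f g s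
  obtain ⟨_, ⟨T, hT, rfl⟩, hyT, -⟩ :=
    (g.fiber s).isBasis_affineOpens.exists_subset_of_mem_open (Set.mem_univ y') isOpen_univ
  replace hT : IsAffineOpen T := hT
  haveI := hR1 T hT
  haveI h1 : Subsingleton (Coh.HH (fm ⁻¹ᵁ T).toScheme (Coh.structureModule (fm ⁻¹ᵁ T).toScheme) 1) :=
    @Groth.L12.GenusZero.subsingleton_of_iso _ _ _
      (((Scheme.Modules.restrictFunctorIsoPullback (fm ⁻¹ᵁ T).ι).app _) ≪≫
        Groth.L29.LocFree.pullbackUnitIso (fm ⁻¹ᵁ T).ι) 1 (hR1 T hT)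
  let b := IsOpenImmersion.lift hT.fromSpec ((g.fiber s).fromSpecResidueField y') (by
    rw [hT.range_fromSpec, Scheme.range_fromSpecResidueField]
    exact Set.singleton_subset_iff.2 hyT)
  have hb : b ≫ hT.fromSpec = (g.fiber s).fromSpecResidueField y' := IsOpenImmersion.lift_fac _ _ _
  have sqT := isPullback_fV fm hT
  have sqF : IsPullback (fm.fiberι y') (fm.fiberToSpecResidueField y') fm ((g.fiber s).fromSpecResidueField y') :=
    IsPullback.of_hasPullback _ _
  let j := sqT.lift (fm.fiberι y') (fm.fiberToSpecResidueField y' ≫ b) (by rw [Category.assoc, hb]; exact sqF.w)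
  have sq : IsPullback j (fm.fiberToSpecResidueField y') (fV fm hT) b := IsPullback.of_right
    (show IsPullback (j ≫ (fm ⁻¹ᵁ T).ι) (fm.fiberToSpecResidueField y') fm (b ≫ hT.fromSpec) by
      rw [sqT.lift_fst, hb]; exact sqF)
    (sqT.lift_snd _ _ _) sqT
  haveI := isProper_fV fm hT
  exact (Groth.L12.GenusZero.baseChange_spec (fV fm hT) (fiber_dim_fV fm hT fun z _ => hdim z) h1
    (fm.fiberToSpecResidueField y') j b sq).1

end Hyp

theorem bijective_res {X : Scheme.{u}} {U V : X.Opens} (e : U = V) :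
    Function.Bijective (X.presheaf.map (eqToHom e).op) :=
  ConcreteCategory.bijective_of_isIso _

theorem image_top_eq {X Y : Scheme.{u}} (f : X ⟶ Y) (V : Y.Opens) : (f ⁻¹ᵁ V).ι ''ᵁ ⊤ = f ⁻¹ᵁ V := by
  rw [Scheme.Hom.image_top_eq_opensRange, Scheme.Opens.opensRange_ι]

theorem toGlobal_comp {Z : Scheme.{u}} {P Q : CommRingCat.{u}} (h : Z ⟶ Spec P) (m : Q ⟶ P) (a : Q) :
    Coh.toGlobal (A := Q) (h ≫ Spec.map m) a = Coh.toGlobal (A := P) h (m a) := by
  show ((Scheme.ΓSpecIso Q).inv ≫ (h ≫ Spec.map m).appTop) a = (m ≫ (Scheme.ΓSpecIso P).inv ≫ h.appTop) a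
  rw [Scheme.Hom.comp_appTop, ← Category.assoc, ← Scheme.ΓSpecIso_inv_naturality, Category.assoc]

/-- Near a point with a good fibre the global functions are finite, with finitely generated kernel when
the map is surjective. -/
theorem exists_nhd_finite {X Y S : Scheme.{u}} (f : X ⟶ Y) [IsProper f] (g : Y ⟶ S) [LocallyOfFiniteType g]
    [LocallyOfFinitePresentation (f ≫ g)] (y : Y) (hdim : topologicalKrullDim ↥(f.fiber y) ≤ 1)
    (hH1 : Subsingleton (Coh.HH (f.fiber y) (Coh.structureModule (f.fiber y)) 1))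
    (O : Y.Opens) (hyO : y ∈ O) (hflat : Flat ((f ⁻¹ᵁ O).ι ≫ f ≫ g)) :
    ∃ (V : Y.Opens) (W : S.Opens), IsAffineOpen V ∧ IsAffineOpen W ∧ V ≤ g ⁻¹ᵁ W ∧ y ∈ V ∧ V ≤ O ∧
      (∀ z ∈ V, topologicalKrullDim ↥(f.fiber z) ≤ 1) ∧
      Subsingleton (Coh.HH (f ⁻¹ᵁ V).toScheme (Coh.structureModule (f ⁻¹ᵁ V).toScheme) 1) ∧
      (f.app V).hom.Finite ∧ (Function.Surjective (f.app V) → (RingHom.ker (f.app V).hom).FG) := by
  obtain ⟨V₁, -, hyV₁, hdV₁, -⟩ := exists_good_nhd f y hdim hH1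
  obtain ⟨_, ⟨W, hW, rfl⟩, hyW, -⟩ :=
    S.isBasis_affineOpens.exists_subset_of_mem_open (Set.mem_univ (g y)) isOpen_univ
  replace hW : IsAffineOpen W := hW
  obtain ⟨V₀, hV₀, hyV₀, hle⟩ := exists_isAffineOpen_mem_and_subset (x := y) (U := O ⊓ V₁ ⊓ g ⁻¹ᵁ W)
    ⟨⟨hyO, hyV₁⟩, hyW⟩
  have e₀ : V₀ ≤ g ⁻¹ᵁ W := hle.trans inf_le_right
  let A := Γ(S, W)
  let B := Γ(Y, V₀)
  letI : Algebra A B := (g.appLE W V₀ e₀).hom.toAlgebra
  haveI : Algebra.FiniteType A B := g.finiteType_appLE hW hV₀ e₀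
  obtain ⟨n, π, hπ⟩ := Algebra.FiniteType.iff_quotient_mvPolynomial''.1 (inferInstance : Algebra.FiniteType A B)
  let ι := Spec.map (CommRingCat.ofHom π.toRingHom)
  haveI : IsClosedImmersion ι := IsClosedImmersion.spec_of_surjective _ hπ
  have hι : ι ≫ affProj n A = Spec.map (g.appLE W V₀ e₀) := by
    rw [← Spec.map_comp]
    congr 1
    exact CommRingCat.hom_ext (RingHom.ext fun a => π.commutes a)
  have hι' : ι ≫ affProj n A ≫ hW.fromSpec = hV₀.fromSpec ≫ g := by
    rw [← Category.assoc, hι]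
    exact IsAffineOpen.SpecMap_appLE_fromSpec g hW hV₀ e₀
  haveI := isProper_fV f hV₀
  let fP := fV f hV₀ ≫ ι
  haveI : IsProper fP := inferInstanceAs (IsProper (fV f hV₀ ≫ ι))
  have hfP : (fP ≫ affProj n A) ≫ hW.fromSpec = (f ⁻¹ᵁ V₀).ι ≫ f ≫ g := by
    simp only [fP, Category.assoc]
    rw [hι', ← Category.assoc (fV f hV₀), fV_fromSpec, Category.assoc]
  haveI : Flat ((fP ≫ affProj n A) ≫ hW.fromSpec) := by
    rw [hfP, ← X.homOfLE_ι (f.preimage_mono (hle.trans (inf_le_left.trans inf_le_left))), Category.assoc]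
    infer_instance
  haveI : Flat (fP ≫ affProj n A) := Groth.L21.Nodal.flat_of_comp_etale _ hW.fromSpec
  haveI : LocallyOfFinitePresentation (fP ≫ affProj n A) := by
    haveI : LocallyOfFinitePresentation ((fP ≫ affProj n A) ≫ hW.fromSpec) := by rw [hfP]; infer_instance
    exact Groth.L23.lfp_of_comp_lft _ hW.fromSpec inferInstance
  haveI : LocallyOfFiniteType (affProj n A) :=
    (HasRingHomProperty.Spec_iff (P := @LocallyOfFiniteType)).2
      (RingHom.finiteType_algebraMap.2 inferInstance)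
  haveI : LocallyOfFinitePresentation fP := Groth.L23.lfp_of_comp_lft _ (affProj n A) inferInstance
  obtain ⟨y', hy'⟩ := hV₀.range_fromSpec.ge hyV₀
  have sqV := isPullback_fV f hV₀
  have sqι : IsPullback (𝟙 _) (fV f hV₀) fP ι := IsPullback.of_horiz_isIso_mono ⟨Category.id_comp fP⟩
  have hd' : topologicalKrullDim ↥((fV f hV₀).fiber y') ≤ 1 :=
    fiber_dim_le_of_isPullback sqV y' (hy'.symm ▸ hdim)
  have h1' : Subsingleton (Coh.HH ((fV f hV₀).fiber y') (Coh.structureModule ((fV f hV₀).fiber y')) 1) :=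
    subsingleton_h1_fiber_ascend sqV y' (hy'.symm ▸ hH1)
  obtain ⟨Q, b, hb, hpb, huniv⟩ := exists_nhd_finitePresentation n fP (ι y')
    (fiber_dim_descend sqι y' hd') (subsingleton_h1_fiber_descend sqι y' h1')
  haveI := hb
  let V := hV₀.fromSpec ''ᵁ (ι ⁻¹ᵁ b.opensRange)
  have hV : IsAffineOpen V :=
    ((isAffineOpen_opensRange b).preimage ι).image_of_isOpenImmersion hV₀.fromSpec
  have hVV₀ : V ≤ V₀ := (hV₀.fromSpec.image_le_opensRange _).trans hV₀.opensRange_fromSpec.le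
  let c := IsOpenImmersion.lift hV₀.fromSpec hV.fromSpec (by
    rw [hV.range_fromSpec, hV₀.range_fromSpec]; exact hVV₀)
  have hc : c ≫ hV₀.fromSpec = hV.fromSpec := IsOpenImmersion.lift_fac _ _ _
  haveI : IsOpenImmersion (c ≫ hV₀.fromSpec) := hc ▸ inferInstance
  haveI : IsOpenImmersion c := IsOpenImmersion.of_comp c hV₀.fromSpec
  have hcr : c.opensRange = ι ⁻¹ᵁ b.opensRange := by
    refine hV₀.fromSpec.image_injective ?_
    dsimp only
    rw [← Scheme.Hom.opensRange_comp, show (c ≫ hV₀.fromSpec).opensRange = hV.fromSpec.opensRange from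
      Opens.ext (congrArg (fun m : Spec Γ(Y, V) ⟶ Y => Set.range ⇑m) hc), hV.opensRange_fromSpec]
  let d := IsOpenImmersion.lift b (c ≫ ι) (by
    rintro _ ⟨z, rfl⟩
    exact (hcr.le ⟨z, rfl⟩ : c z ∈ ι ⁻¹ᵁ b.opensRange))
  have hd : d ≫ b = c ≫ ι := IsOpenImmersion.lift_fac _ _ _
  have sqd : IsPullback d c b ι := IsOpenImmersion.isPullback d c b ι hd.symm hcr.symm
  haveI : IsClosedImmersion d := MorphismProperty.of_isPullback sqd.flip inferInstance
  obtain ⟨δ, hδ⟩ : ∃ δ : Q ⟶ Γ(Y, V), Spec.map δ = d := ⟨Spec.preimage d, Spec.map_preimage _⟩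
  have hδs : Function.Surjective δ := by
    have h := ((HasAffineProperty.iff_of_isAffine (P := @IsClosedImmersion) (f := d)).1 inferInstance).2
    rw [← hδ] at h
    have h2 : Function.Surjective (δ ≫ (Scheme.ΓSpecIso Γ(Y, V)).inv) := by
      rw [Scheme.ΓSpecIso_inv_naturality]
      exact fun z => by
        obtain ⟨w, hw⟩ := h z
        obtain ⟨q, rfl⟩ := (ConcreteCategory.bijective_of_isIso (Scheme.ΓSpecIso Q).inv).2 w
        exact ⟨q, hw⟩
    exact fun z => by
      obtain ⟨q, hq⟩ := h2 ((Scheme.ΓSpecIso Γ(Y, V)).inv z)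
      exact ⟨q, (ConcreteCategory.bijective_of_isIso (Scheme.ΓSpecIso Γ(Y, V)).inv).1 hq⟩
  have sqV' := isPullback_fV f hV
  let g' := sqV.lift (f ⁻¹ᵁ V).ι (fV f hV ≫ c) (by rw [Category.assoc, hc]; exact sqV'.w)
  have sq1 : IsPullback g' (fV f hV) (fV f hV₀) c := IsPullback.of_right
    (show IsPullback (g' ≫ (f ⁻¹ᵁ V₀).ι) (fV f hV) f (c ≫ hV₀.fromSpec) by rw [sqV.lift_fst, hc]; exact sqV')
    (sqV.lift_snd _ _ _) sqV
  obtain ⟨h1V, -, hfp⟩ := huniv _ (fV f hV ≫ d) g' (sq1.paste_vert sqd.flip)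
  let X' := (f ⁻¹ᵁ V).toScheme
  let τ : Q →+* Γ(X', ⊤) := Coh.toGlobal (A := Q) (fV f hV ≫ d)
  let ψ : Γ(Y, V) →+* Γ(X', ⊤) := Coh.toGlobal (A := Γ(Y, V)) (fV f hV)
  have hτ : τ = ψ.comp δ.hom := RingHom.ext fun a => by
    show Coh.toGlobal (A := Q) (fV f hV ≫ d) a = _
    rw [← hδ, toGlobal_comp]
    rfl
  letI : Algebra Q Γ(X', ⊤) := τ.toAlgebra
  haveI hfp' : Module.FinitePresentation Q Γ(X', ⊤) := by
    haveI := hfp
    refine Module.FinitePresentation.of_equiv
      (M := Sec (Coh.toGlobal (A := Q) (fV f hV ≫ d)) (Coh.structureModule X') ⊤) ?_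
    exact
      { (AddEquiv.refl Γ(X', ⊤)) with
        map_smul' := fun a r => by
          show act (Coh.toGlobal (A := Q) (fV f hV ≫ d)) ⊤ a * (show Γ(X', ⊤) from r) = τ a * (show Γ(X', ⊤) from r)
          exact congrArg (· * (show Γ(X', ⊤) from r)) (Groth.L18.Frame.ro_self le_rfl _) }
  have hτfin : τ.Finite := inferInstanceAs (Module.Finite Q Γ(X', ⊤))
  have hψfin : ψ.Finite := RingHom.Finite.of_comp_finite (f := δ.hom) (hτ ▸ hτfin)
  have hres : ∀ a, ψ a = X.presheaf.map (eqToHom (image_top_eq f V)).op (f.app V a) := toGlobal_fV f hV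
  let η : Γ(X, f ⁻¹ᵁ V) ≃+* Γ(X', ⊤) :=
    RingEquiv.ofBijective (X.presheaf.map (eqToHom (image_top_eq f V)).op).hom (bijective_res _)
  have hη : ψ = η.toRingHom.comp (f.app V).hom := RingHom.ext hres
  refine ⟨V, W, hV, hW, hVV₀.trans e₀, ⟨y', ?_, hy'⟩, hVV₀.trans (hle.trans (inf_le_left.trans inf_le_left)),
    fun z hz => hdV₁ z (hle (hVV₀ hz)).1.2, h1V, ?_, fun hsurj => ?_⟩
  · exact hpb
  · have : (f.app V).hom = η.symm.toRingHom.comp ψ := by
      rw [hη, ← RingHom.comp_assoc]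
      exact RingHom.ext fun a => (η.symm_apply_apply _).symm
    rw [this]
    exact RingHom.Finite.comp (RingHom.Finite.of_surjective _ η.symm.surjective) hψfin
  · have hτs : Function.Surjective τ := by
      rw [hτ, RingHom.coe_comp, hη, RingHom.coe_comp]
      exact (η.surjective.comp hsurj).comp hδs
    have hk : (RingHom.ker τ).FG := Module.FinitePresentation.fg_ker (Algebra.linearMap Q Γ(X', ⊤)) hτs
    have : RingHom.ker (f.app V).hom = (RingHom.ker τ).map δ.hom := by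
      rw [hτ, hη, ← RingHom.comap_ker, Ideal.map_comap_of_surjective δ.hom hδs,
        RingHom.ker_equiv_comp]
    rw [this]
    exact hk.map δ.hom

theorem exists_smul_of_field {B Ω : Type u} [CommRing B] [Field Ω] [Algebra B Ω] (C : Type u) [AddCommGroup C]
    [Module B C] [Module.Finite B C] (hC : Subsingleton (Ω ⊗[B] C)) :
    ∃ h : B, algebraMap B Ω h ≠ 0 ∧ ∀ x : C, h • x = 0 := by
  let q : PrimeSpectrum B := ⟨RingHom.ker (algebraMap B Ω), RingHom.ker_isPrime _⟩
  haveI : q.asIdeal.IsPrime := q.2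
  let k := q.asIdeal.ResidueField
  letI : Algebra k Ω := (Ideal.ResidueField.lift q.asIdeal (algebraMap B Ω) le_rfl
    fun x hx => isUnit_iff_ne_zero.2 fun h0 => hx h0).toAlgebra
  haveI : IsScalarTower B k Ω := IsScalarTower.of_algebraMap_eq fun x =>
    (Ideal.ResidueField.lift_algebraMap q.asIdeal (algebraMap B Ω) le_rfl
      (fun y hy => isUnit_iff_ne_zero.2 fun h0 => hy h0) x).symm
  haveI := hC
  haveI : Subsingleton (Ω ⊗[k] (k ⊗[B] C)) :=
    (TensorProduct.AlgebraTensorModule.cancelBaseChange B k Ω Ω C).toEquiv.subsingleton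
  haveI : Subsingleton (k ⊗[B] C) := Module.FaithfullyFlat.lTensor_reflects_triviality k Ω _
  have hq : q ∉ Module.support B C := fun hq => by
    rw [Module.mem_support_iff_nontrivial_residueField_tensorProduct] at hq
    exact not_subsingleton _ ‹Subsingleton (k ⊗[B] C)›
  rw [Module.support_eq_zeroLocus, PrimeSpectrum.mem_zeroLocus] at hq
  obtain ⟨h, hh, hhq⟩ := Set.not_subset.1 hq
  exact ⟨h, fun h0 => hhq h0, fun x => Module.mem_annihilator.1 hh x⟩

/-- Killing a finite module at a field-valued point of the fibre. -/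
theorem exists_smul_of_res {A B κ Ω : Type u} [CommRing A] [CommRing B] [CommRing κ] [Field Ω] [Algebra A B]
    [Algebra A κ] (C : Type u) [AddCommGroup C] [Module A C] [Module B C] [IsScalarTower A B C] [Module.Finite B C]
    (hC : Subsingleton (κ ⊗[A] C)) (res : κ ⊗[A] B →+* Ω) :
    ∃ h : B, res ((1 : κ) ⊗ₜ[A] h) ≠ 0 ∧ ∀ x : C, h • x = 0 := by
  letI : Algebra B Ω :=
    (res.comp (Algebra.TensorProduct.includeRight (R := A) (A := κ) (B := B)).toRingHom).toAlgebra
  let F : κ ⊗[A] C →+ Ω ⊗[B] C := TensorProduct.liftAddHom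
    { toFun := fun c =>
        { toFun := fun x => res (c ⊗ₜ[A] (1 : B)) ⊗ₜ[B] x
          map_zero' := TensorProduct.tmul_zero _ _
          map_add' := fun _ _ => TensorProduct.tmul_add _ _ _ }
      map_zero' := AddMonoidHom.ext fun x => by
        show res ((0 : κ) ⊗ₜ[A] (1 : B)) ⊗ₜ[B] x = 0
        rw [TensorProduct.zero_tmul, map_zero, TensorProduct.zero_tmul]
      map_add' := fun c c' => AddMonoidHom.ext fun x => by
        show res ((c + c') ⊗ₜ[A] (1 : B)) ⊗ₜ[B] x = res (c ⊗ₜ[A] (1 : B)) ⊗ₜ[B] x + res (c' ⊗ₜ[A] (1 : B)) ⊗ₜ[B] x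
        rw [TensorProduct.add_tmul, map_add, TensorProduct.add_tmul] }
    fun a c x => by
      show res ((a • c) ⊗ₜ[A] (1 : B)) ⊗ₜ[B] x = res (c ⊗ₜ[A] (1 : B)) ⊗ₜ[B] (a • x)
      rw [← algebraMap_smul B a x, ← TensorProduct.smul_tmul]
      congr 1
      refine Eq.trans ?_ (Algebra.smul_def (algebraMap A B a) (res (c ⊗ₜ[A] (1 : B)))).symm
      show res ((a • c) ⊗ₜ[A] (1 : B)) = res ((1 : κ) ⊗ₜ[A] algebraMap A B a) * res (c ⊗ₜ[A] (1 : B))
      rw [← map_mul, Algebra.TensorProduct.tmul_mul_tmul, one_mul, mul_one, TensorProduct.smul_tmul,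
        Algebra.algebraMap_eq_smul_one]
  refine exists_smul_of_field C (subsingleton_of_forall_eq 0 fun t => ?_)
  induction t using TensorProduct.induction_on with
  | zero => rfl
  | add a b ha hb => rw [ha, hb, add_zero]
  | tmul ω x =>
    haveI := hC
    have h : (1 : Ω) ⊗ₜ[B] x = 0 := by
      have : F ((1 : κ) ⊗ₜ[A] x) = 0 := by rw [Subsingleton.elim ((1 : κ) ⊗ₜ[A] x) 0, map_zero]
      refine Eq.trans ?_ this
      show (1 : Ω) ⊗ₜ[B] x = res ((1 : κ) ⊗ₜ[A] (1 : B)) ⊗ₜ[B] x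
      rw [← Algebra.TensorProduct.one_def, map_one]
    rw [show ω = ω • (1 : Ω) from (mul_one ω).symm, ← TensorProduct.smul_tmul', h, smul_zero]

end Groth.L12.FlatZero
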